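import Cfsg.Agent.H48.O8Std.DPart

/-!
Counting in the group of 1024 signed permutations attached to the involution of type D₄.
-/

set_option autoImplicit false
set_option maxRecDepth 100000

namespace H48.O8Std

open Subgroup H6.O8
open H76.Exc (toM rmul rsc toM_rmul toM_one toM_two)

/-- The counts. -/
def dCountOK : Bool :=
  ((qdList.filter fun p => mcomp p p == mneg).length == 144) &&
  ((qdList.filter fun p => mcomp p p == [1, 3, 5, 7, 8, 10, 12, 14]).length == 240) &&
  qdList.contains mneg && qdList.contains [1, 3, 5, 7, 8, 10, 12, 14]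

theorem dCountOK_eq : dCountOK = true := by decide +kernel

theorem toM_mneg : toM (mrows mneg) = toM (rsc 2) := by decide +kernel

theorem k_D_z : zM ∈ Kc rD := by
  have h := dCountOK_eq
  simp only [dCountOK, Bool.and_eq_true, List.contains_iff_mem] at h
  obtain ⟨x, hx, -, hv⟩ := qd_mem h.1.2
  rwa [show zM = x from gg_ext zM_val (hv.trans toM_mneg)]

theorem k_D_u : rD ∈ Kc rD := by
  have h := dCountOK_eq
  simp only [dCountOK, Bool.and_eq_true, List.contains_iff_mem] at h
  obtain ⟨x, hx, -, hv⟩ := qd_mem h.2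
  exact (gg_ext rD_val hv : rD = x) ▸ hx

theorem qd_code {p : List ℕ} (hp : p ∈ qdList) : isCode p = true := by
  have h := halvesOK_eq
  simp only [halvesOK, Bool.and_eq_true, List.all_eq_true, beq_iff_eq] at h
  obtain ⟨a, ha, hp⟩ := List.mem_flatMap.1 hp
  obtain ⟨b, hb, rfl⟩ := List.mem_map.1 hp
  exact isCode_mcomp (h.1.1.1.1.1 0 (by simp) a ha) (h.1.1.1.1.1 1 (by simp) b hb)

theorem qd_nodup : qdList.Nodup ∧ qdList.length = 1024 := by
  have h := halvesOK_eq
  simp only [halvesOK, Bool.and_eq_true, List.all_eq_true, beq_iff_eq, decide_eq_true_eq] at h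
  obtain ⟨⟨⟨⟨⟨hc, l0⟩, l1⟩, n0⟩, n1⟩, -⟩ := h
  have hlen : ∀ a ∈ dHalf 0, (a.take 4).length = 4 := fun a ha => by
    rw [List.length_take, (isCode_iff.1 (hc 0 (by simp) a ha)).1]
    rfl
  refine ⟨List.nodup_flatMap.2 ⟨fun a ha => ?_, ?_⟩, ?_⟩
  · refine List.Nodup.map_on (fun b hb b' hb' e => ?_) n1.of_map
    rw [(qd_fit ha hb).1, (qd_fit ha hb').1] at e
    exact List.inj_on_of_nodup_map n1 hb hb' (List.append_cancel_left e)
  · refine (List.Nodup.pairwise_of_forall_ne n0.of_map fun a ha a' ha' hne => ?_)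
    simp only [Function.onFun, List.disjoint_left, List.mem_map]
    rintro p ⟨b, hb, rfl⟩ ⟨b', hb', e⟩
    rw [(qd_fit ha hb).1, (qd_fit ha' hb').1] at e
    exact hne (List.inj_on_of_nodup_map n0 ha' ha
      (List.append_inj_left e (by rw [hlen a ha, hlen a' ha']))).symm
  · simp only [qdList, List.length_flatMap, List.length_map, l1, List.map_const', List.sum_replicate,
      l0]
    rfl

/-- The two-elements with a condition are as many as the listed ones with the same condition. -/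
theorem qd_count (Q : GG → Prop) (R : List ℕ → Bool)
    (h : ∀ (x : GG) (p : List ℕ), p ∈ qdList →
      (x : Matrix (Fin 8) (Fin 8) (ZMod 3)) = toM (mrows p) → (Q x ↔ R p = true)) :
    Nat.card {x : GG // x ∈ Kc rD ∧ Two x ∧ Q x} = (qdList.filter R).length := by
  classical
  have hmem : ∀ p : {p // p ∈ (qdList.filter R).toFinset}, ∃ x : GG, x ∈ Kc rD ∧ Two x ∧ Q x ∧
      (x : Matrix (Fin 8) (Fin 8) (ZMod 3)) = toM (mrows p.1) := by
    rintro ⟨p, hp⟩
    rw [List.mem_toFinset, List.mem_filter] at hp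
    obtain ⟨x, hx, h2, hv⟩ := qd_mem hp.1
    exact ⟨x, hx, h2, (h x p hp.1 hv).2 hp.2, hv⟩
  choose f h1 h2 h3 hv using hmem
  have hbij : Function.Bijective fun p => (⟨f p, h1 p, h2 p, h3 p⟩ :
      {x : GG // x ∈ Kc rD ∧ Two x ∧ Q x}) := by
    refine ⟨fun p q e => ?_, fun x => ?_⟩
    · have e' : f p = f q := congrArg Subtype.val e
      have hp := (List.mem_filter.1 (List.mem_toFinset.1 p.2)).1
      have hq := (List.mem_filter.1 (List.mem_toFinset.1 q.2)).1
      exact Subtype.ext (code_ext (qd_code hp) (qd_code hq) (by rw [← hv p, ← hv q, e']))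
    · obtain ⟨p, hp, hpv⟩ := qd_cover x.2.1 x.2.2.1
      refine ⟨⟨p, List.mem_toFinset.2 (List.mem_filter.2 ⟨hp, (h _ p hp hpv).1 x.2.2.2⟩)⟩,
        Subtype.ext (Units.ext ?_)⟩
      rw [hv, hpv]
  rw [← Nat.card_eq_of_bijective _ hbij, Nat.card_eq_fintype_card, Fintype.card_coe,
    List.toFinset_card_of_nodup (qd_nodup.1.filter _)]

theorem sq_code {x : GG} {p : List ℕ} (hp : p ∈ qdList)
    (hv : (x : Matrix (Fin 8) (Fin 8) (ZMod 3)) = toM (mrows p)) {y : GG} {q : List ℕ}
    (hq : isCode q = true) (hy : (y : Matrix (Fin 8) (Fin 8) (ZMod 3)) = toM (mrows q)) :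
    x * x = y ↔ (mcomp p p == q) = true := by
  have hc := qd_code hp
  rw [beq_iff_eq]
  constructor
  · intro e
    refine code_ext (isCode_mcomp hc hc) hq ?_
    rw [toM_mcomp _ hc, ← hv, ← Units.val_mul, e, hy]
  · intro e
    exact Units.ext (by rw [Units.val_mul, hv, ← toM_mcomp _ hc, e, hy])

theorem k_D_roots : Nat.card {x : GG // x ∈ Kc rD ∧ Two x ∧ x * x = zM} ≠
    Nat.card {x : GG // x ∈ Kc rD ∧ Two x ∧ x * x = rD} := by
  have h := dCountOK_eq
  simp only [dCountOK, Bool.and_eq_true, beq_iff_eq] at h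
  rw [qd_count (fun x => x * x = zM) (fun p => mcomp p p == mneg)
      (fun x p hp hv => sq_code hp hv (by decide +kernel) (zM_val.trans toM_mneg.symm)),
    qd_count (fun x => x * x = rD) (fun p => mcomp p p == [1, 3, 5, 7, 8, 10, 12, 14])
      (fun x p hp hv => sq_code hp hv (by decide +kernel) rD_val),
    h.1.1.1, h.1.1.2]
  norm_num

theorem D_card : Nat.card {x : GG // x ∈ Kc rD ∧ Two x} = 1024 := by
  rw [Nat.card_congr (Equiv.subtypeEquivRight (q := fun x : GG => x ∈ Kc rD ∧ Two x ∧ True)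
    fun x => by simp), qd_count (fun _ => True) (fun _ => true) (fun _ _ _ _ => by simp),
    List.filter_true, qd_nodup.2]

theorem D_closed : ∀ x ∈ Kc rD, ∀ y ∈ Kc rD, Two x → Two y → Two (x * y) := by
  intro x hx y hy hx2 hy2
  obtain ⟨p, hp, hpv⟩ := qd_cover' (mul_mem hx hy) (fun t v hv => by
    have := imCls_mul (Kc_le_MM hy) (Kc_comm hy) (x := x) (σ := 1) (τ := 1)
      (fun v hv => two_fix hx hx2 hv) (fun v hv => two_fix hy hy2 hv) v hv
    simpa using this)
  obtain ⟨z, -, hz2, hzv⟩ := qd_mem hp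
  rwa [show x * y = z from Units.ext (hpv.trans hzv.symm)]

end H48.O8Std
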