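import Cfsg.Agent.H48.O8Std.ClassFacts
import Cfsg.Agent.H20.O8Cover.Quad

/-!
Common tools for the facts on the centralisers in the double cover: witnesses from signed
permutations, the count of negated lines and the action on vectors.
-/

set_option autoImplicit false
set_option maxRecDepth 100000

namespace H48.O8Std

open Subgroup H6.O8
open H76.Exc (toM rmul rsc toM_rmul toM_one toM_two)
open H20.O8Cover (rvv root rvec rsmul rdot vec vec_rvec vec_rsmul dot_vec fIdx fIdx_lt fv)

/-- The code of a word. -/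
def wcode (w : List ℕ) : List ℕ := w.foldl (fun q t => mcomp q (cCode t)) mone

/-- A word of odd order commuting with a signed permutation. -/
def oddWitOK (p w : List ℕ) : Bool :=
  w.all (· < 56) && (w.length % 2 == 0) && isCode p && isCode (wcode w) &&
    (mcomp (wcode w) (mcomp (wcode w) (wcode w)) == mone) &&
    (mcomp p (wcode w) == mcomp (wcode w) p)

theorem oddWit_mem {a : GG} {p w : List ℕ}
    (ha : (a : Matrix (Fin 8) (Fin 8) (ZMod 3)) = toM (mrows p)) (h : oddWitOK p w = true) :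
    mg w ∈ Kc a := by
  simp only [oddWitOK, Bool.and_eq_true, List.all_eq_true, decide_eq_true_eq, beq_iff_eq] at h
  obtain ⟨⟨⟨⟨⟨hw, hev⟩, hp⟩, hc⟩, h3⟩, hcomm⟩ := h
  have hv : ((mg w : GG) : Matrix (Fin 8) (Fin 8) (ZMod 3)) = toM (mrows (wcode w)) := mg_val hw
  refine subset_closure ⟨(mg_parity hw).2 (Nat.even_iff.2 hev), Units.ext ?_, ?_⟩
  · rw [Units.val_mul, Units.val_mul, ha, hv, ← toM_mcomp _ hc, ← toM_mcomp _ hp, hcomm]
  · have hcube : mg w ^ 3 = 1 := Units.ext (by
      rw [pow_three, Units.val_mul, Units.val_mul, hv, ← toM_mcomp _ hc,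
        ← toM_mcomp _ (isCode_mcomp hc hc), h3, toM_mone, Units.val_one])
    exact Odd.of_dvd_nat (by decide) (orderOf_dvd_of_pow_eq_one hcube)

/-- Several witnesses and their product. -/
def witsOK (p : List ℕ) (ws : List (List ℕ)) (q : List ℕ) : Bool :=
  ws.all (oddWitOK p) && (ws.foldl (fun c w => mcomp c (wcode w)) mone == q)

theorem wits_mem {a : GG} {p q : List ℕ} {ws : List (List ℕ)}
    (ha : (a : Matrix (Fin 8) (Fin 8) (ZMod 3)) = toM (mrows p)) (h : witsOK p ws q = true) :
    ∃ x ∈ Kc a, (x : Matrix (Fin 8) (Fin 8) (ZMod 3)) = toM (mrows q) := by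
  simp only [witsOK, Bool.and_eq_true, List.all_eq_true, beq_iff_eq] at h
  obtain ⟨hws, hq⟩ := h
  suffices key : ∀ (l : List (List ℕ)), (∀ w ∈ l, oddWitOK p w = true) → ∀ (x : GG) (c : List ℕ),
      x ∈ Kc a → isCode c = true → (x : Matrix (Fin 8) (Fin 8) (ZMod 3)) = toM (mrows c) →
      ∃ y ∈ Kc a, (y : Matrix (Fin 8) (Fin 8) (ZMod 3)) =
        toM (mrows (l.foldl (fun c w => mcomp c (wcode w)) c)) by
    obtain ⟨y, hy, hyv⟩ := key ws hws 1 mone (one_mem _) isCode_mone
      (by rw [toM_mone, Units.val_one])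
    exact ⟨y, hy, by rw [hyv, hq]⟩
  intro l
  induction l with
  | nil => intro _ x c hx _ hxv; exact ⟨x, hx, hxv⟩
  | cons w l ih =>
    intro hl x c hx hc hxv
    have hw := hl w List.mem_cons_self
    have h0 := hw
    simp only [oddWitOK, Bool.and_eq_true, List.all_eq_true, decide_eq_true_eq, beq_iff_eq] at h0
    obtain ⟨⟨⟨⟨⟨hw1, -⟩, -⟩, hwc⟩, -⟩, -⟩ := h0
    refine ih (fun u hu => hl u (List.mem_cons_of_mem _ hu)) _ _ (mul_mem hx (oddWit_mem ha hw))
      (isCode_mcomp hc hwc) ?_
    rw [Units.val_mul, hxv, mg_val hw1, toM_mcomp _ hwc]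
    rfl

theorem Kc_le_MM {a : GG} : Kc a ≤ MM := (closure_le _).2 fun _ hx => hx.1

theorem Kc_comm {a x : GG} (hx : x ∈ Kc a) : Commute a x := by
  induction hx using closure_induction with
  | mem x hx => exact hx.2.1
  | one => exact Commute.one_right _
  | mul x y _ _ h1 h2 => exact h1.mul_right h2
  | inv x _ h => exact h.inv_right

/-- Conjugation moves the generated subgroups. -/
theorem Kc_conj {a m x : GG} (hm : m ∈ MM) (hx : x ∈ Kc a) : m * x * m⁻¹ ∈ Kc (m * a * m⁻¹) := by
  induction hx using closure_induction with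
  | mem x hx =>
    refine subset_closure ⟨mul_mem (mul_mem hm hx.1) (inv_mem hm), ?_, ?_⟩
    · show m * a * m⁻¹ * (m * x * m⁻¹) = m * x * m⁻¹ * (m * a * m⁻¹)
      rw [show m * a * m⁻¹ * (m * x * m⁻¹) = m * (a * x) * m⁻¹ by group, hx.2.1.eq]
      group
    · rw [← MulAut.conj_apply, show orderOf (MulAut.conj m x) = orderOf x from
        orderOf_injective (MulAut.conj m).toMonoidHom (MulEquiv.injective _) x]
      exact hx.2.2
  | one => rw [mul_one, mul_inv_cancel]; exact one_mem _
  | mul x y _ _ h1 h2 =>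
    rw [show m * (x * y) * m⁻¹ = m * x * m⁻¹ * (m * y * m⁻¹) by group]
    exact mul_mem h1 h2
  | inv x _ h =>
    rw [show m * x⁻¹ * m⁻¹ = (m * x * m⁻¹)⁻¹ by group]
    exact inv_mem h

theorem Two.conj {m x : GG} (hx : Two x) : Two (m * x * m⁻¹) := by
  obtain ⟨n, hn⟩ := hx
  exact ⟨n, by rw [conj_pow, hn, mul_one, mul_inv_cancel]⟩

theorem MM_M {x : GG} (hx : x ∈ MM) : x ∈ H20.O8Cover.M := by rwa [← H20.O8Cover.MM_eq]

theorem MM_dot {x : GG} (hx : x ∈ MM) (v w : Fin 8 → ZMod 3) :
    dotProduct ((x : Matrix (Fin 8) (Fin 8) (ZMod 3)).mulVec v)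
      ((x : Matrix (Fin 8) (Fin 8) (ZMod 3)).mulVec w) = dotProduct v w :=
  H20.O8Cover.dot_map (MM_M hx) v w

theorem mul_mulVec (x y : GG) (v : Fin 8 → ZMod 3) :
    ((x * y : GG) : Matrix (Fin 8) (Fin 8) (ZMod 3)).mulVec v =
      (x : Matrix (Fin 8) (Fin 8) (ZMod 3)).mulVec
        ((y : Matrix (Fin 8) (Fin 8) (ZMod 3)).mulVec v) := by
  rw [Units.val_mul, Matrix.mulVec_mulVec]

theorem inv_mulVec_cancel (x : GG) (v : Fin 8 → ZMod 3) :
    ((x⁻¹ : GG) : Matrix (Fin 8) (Fin 8) (ZMod 3)).mulVec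
      ((x : Matrix (Fin 8) (Fin 8) (ZMod 3)).mulVec v) = v := by
  rw [← mul_mulVec, inv_mul_cancel, Units.val_one, Matrix.one_mulVec]

theorem mulVec_inv_cancel (x : GG) (v : Fin 8 → ZMod 3) :
    (x : Matrix (Fin 8) (Fin 8) (ZMod 3)).mulVec
      (((x⁻¹ : GG) : Matrix (Fin 8) (Fin 8) (ZMod 3)).mulVec v) = v := by
  rw [← mul_mulVec, mul_inv_cancel, Units.val_one, Matrix.one_mulVec]

/-- Vectors given by reduced lists are equal only when the lists are. -/
theorem vec_inj {a b : List ℕ} (ha : a ∈ allVecs 8) (hb : b ∈ allVecs 8) (h : vec a = vec b) :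
    a = b := by
  have hl : ∀ (n : ℕ) (v : List ℕ), v ∈ allVecs n → v.length = n ∧ ∀ c ∈ v, c < 3 := by
    intro n
    induction n with
    | zero => intro v hv; rw [List.mem_singleton.1 hv]; simp
    | succ n ih =>
      intro v hv
      obtain ⟨u, hu, hv⟩ := List.mem_flatMap.1 hv
      obtain ⟨h1, h2⟩ := ih u hu
      simp only [List.mem_cons, List.not_mem_nil, or_false] at hv
      rcases hv with rfl | rfl | rfl <;>
        exact ⟨by simp [h1], List.forall_mem_cons.2 ⟨by norm_num, h2⟩⟩
  obtain ⟨la, ca⟩ := hl 8 a ha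
  obtain ⟨lb, cb⟩ := hl 8 b hb
  refine List.ext_getElem (by rw [la, lb]) fun i h1 h2 => ?_
  have e : vec a ⟨i, by omega⟩ = vec b ⟨i, by omega⟩ := congrFun h _
  simp only [vec, List.getD_eq_getElem _ _ h1, List.getD_eq_getElem _ _ h2] at e
  have e' := congrArg ZMod.val e
  rw [ZMod.val_natCast, ZMod.val_natCast, Nat.mod_eq_of_lt (ca _ (List.getElem_mem h1)),
    Nat.mod_eq_of_lt (cb _ (List.getElem_mem h2))] at e'
  exact e'

/-- The list of a vector. -/
def lstV (u : Fin 8 → ZMod 3) : List ℕ := List.ofFn fun i => (u i).val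

theorem vec_lstV (u : Fin 8 → ZMod 3) : vec (lstV u) = u := by
  funext i
  rw [vec, lstV, List.getD_eq_getElem _ _ (by simp), List.getElem_ofFn, ZMod.natCast_zmod_val]

theorem lstV_mem (u : Fin 8 → ZMod 3) : lstV u ∈ allVecs 8 :=
  mem_allVecs 8 _ (by simp [lstV]) fun c hc => by
    obtain ⟨i, rfl⟩ := List.mem_ofFn.1 hc
    exact ZMod.val_lt _

theorem rvec_mem (A : List (List ℕ)) (v : List ℕ) : rvec A v ∈ allVecs 8 :=
  mem_allVecs 8 _ (by simp [rvec]) fun c hc => by
    obtain ⟨i, rfl⟩ := List.mem_ofFn.1 hc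
    exact Nat.mod_lt _ (by norm_num)

theorem rsmul_mem (c : ℕ) (v : List ℕ) : rsmul c v ∈ allVecs 8 :=
  mem_allVecs 8 _ (by simp [rsmul]) fun c hc => by
    obtain ⟨i, rfl⟩ := List.mem_ofFn.1 hc
    exact Nat.mod_lt _ (by norm_num)

theorem neg_vec (v : List ℕ) : -vec v = vec (rsmul 2 v) := by
  rw [vec_rsmul, show ((2 : ℕ) : ZMod 3) = -1 by decide, neg_one_smul]

/-- The lines negated by an element. -/
def negLines (x : GG) : Finset ℕ :=
  (Finset.range 120).filter fun k =>
    (x : Matrix (Fin 8) (Fin 8) (ZMod 3)).mulVec (rvv k) = -rvv k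

theorem negLines_card_of_val {x : GG} {A : List (List ℕ)}
    (h : (x : Matrix (Fin 8) (Fin 8) (ZMod 3)) = toM A) :
    (negLines x).card = ((List.range 120).filter fun k => rvec A (root k) == rsmul 2 (root k)).length := by
  rw [← List.toFinset_card_of_nodup (List.Nodup.filter _ List.nodup_range)]
  congr 1
  ext k
  simp only [negLines, Finset.mem_filter, Finset.mem_range, List.mem_toFinset, List.mem_filter,
    List.mem_range, beq_iff_eq, rvv, h, ← vec_rvec, neg_vec, and_congr_right_iff]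
  exact fun _ => ⟨vec_inj (rvec_mem _ _) (rsmul_mem _ _), fun e => by rw [e]⟩

theorem negLines_card_le {m x : GG} (hm : m ∈ MM) :
    (negLines x).card ≤ (negLines (m * x * m⁻¹)).card := by
  classical
  have h : ∀ k : ℕ, ∃ l, k < 120 → l < 120 ∧ m * H20.O8Cover.Rf k * m⁻¹ = H20.O8Cover.Rf l ∧
      ((m : Matrix (Fin 8) (Fin 8) (ZMod 3)).mulVec (rvv k) = rvv l ∨
        (m : Matrix (Fin 8) (Fin 8) (ZMod 3)).mulVec (rvv k) = -rvv l) := by
    intro k
    by_cases hk : k < 120
    · obtain ⟨l, hl, e, e'⟩ := H20.O8Cover.exists_conj_Rf (MM_M hm) hk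
      exact ⟨l, fun _ => ⟨hl, e, e'⟩⟩
    · exact ⟨0, fun h => absurd h hk⟩
  choose f hf using h
  refine Finset.card_le_card_of_injOn f (fun k hk => ?_) fun k hk l hl e => ?_
  · simp only [negLines, Finset.coe_filter, Finset.mem_range, Set.mem_setOf_eq] at hk ⊢
    obtain ⟨hlt, -, e⟩ := hf k hk.1
    refine ⟨hlt, ?_⟩
    have key : ((m * x * m⁻¹ : GG) : Matrix (Fin 8) (Fin 8) (ZMod 3)).mulVec
        ((m : Matrix (Fin 8) (Fin 8) (ZMod 3)).mulVec (rvv k)) =
        -((m : Matrix (Fin 8) (Fin 8) (ZMod 3)).mulVec (rvv k)) := by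
      rw [mul_mulVec, mul_mulVec, inv_mulVec_cancel, hk.2, Matrix.mulVec_neg]
    rcases e with e | e <;> rw [e] at key
    · exact key
    · rw [Matrix.mulVec_neg, neg_inj] at key
      exact key
  · simp only [negLines, Finset.coe_filter, Finset.mem_range, Set.mem_setOf_eq] at hk hl
    refine (H20.O8Cover.Rf_inj_comm hk.1 hl.1).1 ?_
    have h1 := (hf k hk.1).2.1
    rw [e, ← (hf l hl.1).2.1] at h1
    exact mul_left_cancel (mul_right_cancel h1)

theorem negLines_conj {m x : GG} (hm : m ∈ MM) :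
    (negLines (m * x * m⁻¹)).card = (negLines x).card := by
  refine le_antisymm ?_ (negLines_card_le hm)
  have := negLines_card_le (x := m * x * m⁻¹) (inv_mem hm)
  rwa [show m⁻¹ * (m * x * m⁻¹) * m⁻¹⁻¹ = x by group] at this

theorem negLines_MConj {a b : GG} (h : MConj a b) : (negLines a).card = (negLines b).card := by
  obtain ⟨m, hm, rfl⟩ := h
  exact (negLines_conj hm).symm

theorem negLines_rep {r : ℕ} (hr : r < 10) :
    (negLines (repGG r)).card = [0, 120, 2, 30, 12, 4, 1, 63, 3, 13].getD r 0 := by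
  have h : ∀ r < 10, ((List.range 120).filter fun k =>
      rvec (mrows (classReps.getD r [])) (root k) == rsmul 2 (root k)).length =
      [0, 120, 2, 30, 12, 4, 1, 63, 3, 13].getD r 0 := by decide +kernel
  rw [negLines_card_of_val (repGG_props (by omega)).2, h r hr]

/-- An involution of the cover is determined up to conjugacy by the number of negated lines. -/
theorem inner_by_count {a : GG} (ha : a ∈ MM) (h : a * a = 1) :
    ((negLines a).card = 4 → MConj a rF) ∧ ((negLines a).card = 12 → MConj a rD) := by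
  have c : ∀ {b : GG}, MConj a b → (negLines a).card = (negLines b).card := negLines_MConj
  have h0 := negLines_rep (r := 0) (by norm_num)
  have h1 := negLines_rep (r := 1) (by norm_num)
  have h2 := negLines_rep (r := 2) (by norm_num)
  have h3 := negLines_rep (r := 3) (by norm_num)
  have h4 := negLines_rep (r := 4) (by norm_num)
  have h5 := negLines_rep (r := 5) (by norm_num)
  simp only [rep_one, rep_z, rep_A, rep_B, rep_D, rep_F, List.getD_cons_zero,
    List.getD_cons_succ] at h0 h1 h2 h3 h4 h5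
  rcases classFacts.inner_two a ha h with rfl | rfl | e | e | e | e
  · exact ⟨by omega, by omega⟩
  · exact ⟨by omega, by omega⟩
  · have := c e; exact ⟨by omega, by omega⟩
  · have := c e; exact ⟨by omega, by omega⟩
  · have := c e; exact ⟨by omega, fun _ => e⟩
  · have := c e; exact ⟨fun _ => e, by omega⟩

/-- An outer involution negating three lines is a product of three orthogonal reflections. -/
theorem outer_by_count {a : GG} (ha : a ∈ WW) (ha' : a ∉ MM) (h : a * a = 1)
    (h' : (negLines a).card = 3) : MConj a rP := by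
  have h6 := negLines_rep (r := 6) (by norm_num)
  have h7 := negLines_rep (r := 7) (by norm_num)
  have h9 := negLines_rep (r := 9) (by norm_num)
  simp only [rep_R, rep_zR, rep_zP, List.getD_cons_zero, List.getD_cons_succ] at h6 h7 h9
  rcases classFacts.outer a ha ha' (Or.inl h) with e | e | e | e
  · have := negLines_MConj e; omega
  · have := negLines_MConj e; omega
  · exact e
  · have := negLines_MConj e; omega

end H48.O8Std
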