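import Cfsg.Agent.H48.O8Std.Tabs
import Cfsg.Agent.H76.D4TwoCheck
import Mathlib.Tactic.IntervalCases
import Mathlib.Tactic.NormNum

/-!
Checks on signed permutations and reflections of the root system of type E₈ modulo three.

A signed permutation is the list of the codes of the images of the unit vectors, `2i + s` standing
for `(-1)^s` times the `i`-th one.
-/

set_option autoImplicit false
set_option maxRecDepth 100000

namespace H48.O8Std

open H76.Exc (rmul rsc)

/-- Composition of signed permutations. -/
def mcomp (p q : List ℕ) : List ℕ :=
  q.map fun c => p.getD (c / 2) 0 / 2 * 2 + (p.getD (c / 2) 0 + c) % 2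

/-- The identity. -/
def mone : List ℕ := [0, 2, 4, 6, 8, 10, 12, 14]

/-- Minus the identity. -/
def mneg : List ℕ := [1, 3, 5, 7, 9, 11, 13, 15]

/-- The matrix of a signed permutation, by rows. -/
def mrows (p : List ℕ) : List (List ℕ) :=
  List.ofFn fun i : Fin 8 => List.ofFn fun j : Fin 8 =>
    if p.getD j.val 0 / 2 = i.val then 1 + p.getD j.val 0 % 2 else 0

/-- The reflection in a root, by rows. -/
def rrefl (a : List ℕ) : List (List ℕ) :=
  List.ofFn fun i : Fin 8 => List.ofFn fun j : Fin 8 =>
    ((if i = j then 1 else 0) + 2 * (a.getD i.val 0 * a.getD j.val 0)) % 3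

/-- Whether a vector is a root: two nonzero entries, or none zero and an even number of twos. -/
def isRt (a : List ℕ) : Bool :=
  (a.length == 8) && a.all (· < 3) &&
    ((a.countP (· == 0) == 6) || ((a.countP (· == 0) == 0) && (a.countP (· == 2) % 2 == 0)))

/-- The coordinate pairs of the reflections among signed permutations. -/
def coordPairs : List (ℕ × ℕ × ℕ) :=
  (List.range 8).flatMap fun i => (List.range 8).flatMap fun j =>
    if i < j then [(i, j, 0), (i, j, 1)] else []

/-- The root of a coordinate reflection. -/
def cRoot (t : ℕ) : List ℕ :=
  let (i, j, s) := coordPairs.getD t (0, 1, 0)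
  List.ofFn fun k : Fin 8 => if k.val = i then 1 else if k.val = j then 2 - s else 0

/-- The signed permutation of a coordinate reflection. -/
def cCode (t : ℕ) : List ℕ :=
  let (i, j, s) := coordPairs.getD t (0, 1, 0)
  List.ofFn fun k : Fin 8 => if k.val = i then 2 * j + s else if k.val = j then 2 * i + s else
    2 * k.val

/-- Even sign changes, by seven bits. -/
def signCode (b : ℕ) : List ℕ :=
  let c := (List.range 7).map fun i => b / 2 ^ i % 2
  List.ofFn fun k : Fin 8 => 2 * k.val + (if k.val < 7 then c.getD k.val 0 else c.sum % 2)

/-- The element of the block group with two indices. -/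
def pCode (k b : ℕ) : List ℕ := mcomp (signCode b) (blockPerms.getD k [])

/-- Shape of a code. -/
def isCode (p : List ℕ) : Bool := (p.length == 8) && p.all (· < 16)

/-- The digits in base 57 of a certificate, shifted by one. -/
def certWord : ℕ → ℕ → List ℕ
  | 0, _ => []
  | n + 1, e => if e = 0 then [] else (e % 57 - 1) :: certWord n (e / 57)

/-- Conjugation by coordinate reflections, the head first. -/
def conjWord (w : List ℕ) (p : List ℕ) : List ℕ :=
  w.foldl (fun q t => mcomp (mcomp (cCode t) q) (cCode t)) p

/-- A signed permutation squaring to a sign is carried to a normal form by its certificate. -/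
def certOK (k b : ℕ) : Bool :=
  let p := pCode k b
  let q := mcomp p p
  if q == mone || q == mneg then
    let e := (sqCert.getD k []).getD b 0
    let w := certWord 8 (e / 17)
    w.all (· < 56) && (conjWord w p == normForms.getD (e % 17) []) && (e % 17 < 17)
  else true

/-- The coordinate reflections. -/
def cReflOK : Bool :=
  (List.range 56).all fun t => (mrows (cCode t) == rrefl (cRoot t)) && isRt (cRoot t) &&
    isCode (cCode t)

/-- The seven bits of a sign change. -/
def decSign (q : List ℕ) : ℕ :=
  ((List.range 7).map fun i => q.getD i 0 % 2 * 2 ^ i).sum

/-- Left multiplication by the generating sign changes. -/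
def signMulOK : Bool :=
  (List.range 128).all fun b => isCode (signCode b) &&
    (List.range 7).all fun i => mcomp (signCode (2 ^ i)) (signCode b) == signCode (b ^^^ 2 ^ i)

/-- The block generators. -/
def genCode (g : ℕ) : List ℕ :=
  [[2, 0, 4, 6, 8, 10, 12, 14], [4, 6, 0, 2, 8, 10, 12, 14], [8, 10, 12, 14, 0, 2, 4, 6]].getD g []

/-- The sign change moved past a block generator. -/
def signPast (g b : ℕ) : ℕ := decSign (mcomp (mcomp (genCode g) (signCode b)) (genCode g))

/-- Left multiplication by the block generators. -/
def genMulOK : Bool :=
  ((List.range 3).all fun g =>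
    ((blockGenWords.getD g []).foldl (fun q t => mcomp q (cCode t)) mone == genCode g) &&
    (List.range 128).all fun b =>
      let c := signPast g b
      decide (c < 128) &&
        (mcomp (genCode g) (signCode b) == mcomp (signCode c) (genCode g))) &&
  ((List.range 128).all fun k => isCode (blockPerms.getD k []) &&
    (List.range 3).all fun g => blockPerms.contains (mcomp (genCode g) (blockPerms.getD k [])))

/-- A permutation of order at most two. -/
def invPerm (k : ℕ) : Bool :=
  let p := blockPerms.getD k []
  (List.range 8).all fun j => p.getD (p.getD j 0 / 2) 0 / 2 == j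

/-- The certificates of one row. -/
def rowCertOK (k : ℕ) : Bool := !invPerm k || (List.range 128).all fun b => certOK k b

/-- The certificates of sixteen rows. -/
def chunkCertOK (c : ℕ) : Bool := (List.range 16).all fun i => rowCertOK (16 * c + i)

/-- The links from normal forms to representatives. -/
def linkOK : Bool :=
  (List.range 17).all fun i =>
    let (r, w) := nfLink.getD i (0, [])
    w.all isRt && (r < 11) && isCode (normForms.getD i []) && isCode (classReps.getD r []) &&
      (w.reverse.foldl (fun X a => rmul (rmul (rrefl a) X) (rrefl a)) (mrows (normForms.getD i []))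
        == mrows (classReps.getD r []))

theorem cReflOK_eq : cReflOK = true := by decide +kernel

theorem linkOK_eq : linkOK = true := by decide +kernel

theorem signMulOK_eq : signMulOK = true := by decide +kernel

theorem genMulOK_eq : genMulOK = true := by decide +kernel

theorem chunkCert0 : chunkCertOK 0 = true := by decide +kernel
theorem chunkCert1 : chunkCertOK 1 = true := by decide +kernel
theorem chunkCert2 : chunkCertOK 2 = true := by decide +kernel
theorem chunkCert3 : chunkCertOK 3 = true := by decide +kernel
theorem chunkCert4 : chunkCertOK 4 = true := by decide +kernel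
theorem chunkCert5 : chunkCertOK 5 = true := by decide +kernel
theorem chunkCert6 : chunkCertOK 6 = true := by decide +kernel
theorem chunkCert7 : chunkCertOK 7 = true := by decide +kernel

theorem rowCert {k : ℕ} (hk : k < 128) : rowCertOK k = true := by
  have h : chunkCertOK (k / 16) = true := by
    have hh : ∀ c < 8, chunkCertOK c = true := by
      intro c hc
      interval_cases c
      exacts [chunkCert0, chunkCert1, chunkCert2, chunkCert3, chunkCert4, chunkCert5, chunkCert6,
        chunkCert7]
    exact hh _ (by omega)
  simp only [chunkCertOK, List.all_eq_true, List.mem_range] at h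
  have := h (k % 16) (Nat.mod_lt _ (by norm_num))
  rwa [Nat.div_add_mod] at this

end H48.O8Std
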