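import Mathlib.Data.Nat.Notation

/-!
The 120 root lines as the orbit of one of them under the lifts, each with its parent.
-/

set_option autoImplicit false
set_option maxRecDepth 100000

namespace H48.O8Std

/-- One root on every line. -/
def rootLines : List (List ℕ) := [
  [1, 0, 0, 1, 0, 0, 0, 0],
  [2, 2, 2, 1, 1, 2, 1, 1],
  [1, 2, 1, 2, 1, 2, 2, 1],
  [0, 0, 0, 0, 1, 1, 0, 0],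
  [2, 1, 1, 1, 2, 2, 2, 1],
  [0, 1, 0, 0, 0, 0, 1, 0],
  [0, 0, 1, 0, 0, 0, 0, 2],
  [0, 0, 1, 0, 0, 0, 1, 0],
  [1, 2, 2, 2, 2, 1, 1, 1],
  [0, 0, 0, 0, 0, 2, 0, 2],
  [1, 1, 2, 2, 1, 2, 2, 1],
  [2, 2, 1, 2, 2, 2, 2, 1],
  [1, 2, 1, 1, 2, 2, 2, 1],
  [1, 1, 2, 2, 1, 2, 1, 2],
  [0, 2, 0, 0, 2, 0, 0, 0],
  [2, 2, 2, 2, 1, 1, 1, 1],
  [1, 2, 2, 1, 1, 1, 1, 1],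
  [2, 2, 2, 1, 1, 2, 2, 2],
  [2, 1, 1, 2, 2, 1, 1, 2],
  [1, 1, 1, 1, 2, 1, 1, 2],
  [0, 0, 1, 0, 0, 0, 0, 1],
  [0, 1, 0, 0, 0, 0, 2, 0],
  [1, 2, 1, 2, 2, 2, 1, 1],
  [1, 1, 2, 2, 2, 2, 2, 2],
  [0, 0, 0, 0, 2, 1, 0, 0],
  [0, 1, 0, 0, 0, 0, 0, 1],
  [2, 2, 1, 1, 1, 1, 2, 2],
  [1, 0, 0, 0, 0, 1, 0, 0],
  [0, 0, 0, 2, 0, 1, 0, 0],
  [0, 0, 0, 1, 2, 0, 0, 0],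
  [2, 0, 0, 0, 2, 0, 0, 0],
  [0, 1, 0, 0, 0, 0, 0, 2],
  [0, 0, 0, 2, 0, 0, 2, 0],
  [1, 0, 0, 0, 0, 0, 2, 0],
  [1, 2, 1, 2, 1, 2, 1, 2],
  [2, 1, 2, 2, 2, 2, 1, 2],
  [1, 1, 2, 1, 2, 2, 1, 2],
  [0, 0, 1, 0, 2, 0, 0, 0],
  [0, 0, 2, 0, 2, 0, 0, 0],
  [1, 2, 0, 0, 0, 0, 0, 0],
  [0, 2, 0, 2, 0, 0, 0, 0],
  [2, 2, 2, 2, 1, 1, 2, 2],
  [1, 2, 2, 1, 1, 1, 2, 2],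
  [1, 1, 2, 2, 2, 1, 2, 1],
  [2, 0, 2, 0, 0, 0, 0, 0],
  [0, 0, 2, 1, 0, 0, 0, 0],
  [1, 2, 2, 1, 2, 2, 1, 1],
  [2, 2, 2, 2, 2, 2, 1, 1],
  [0, 0, 0, 0, 0, 2, 2, 0],
  [1, 2, 2, 2, 2, 1, 2, 2],
  [0, 0, 0, 2, 0, 0, 0, 2],
  [1, 0, 0, 0, 0, 0, 0, 2],
  [0, 0, 0, 0, 0, 2, 1, 0],
  [2, 2, 2, 1, 2, 1, 2, 2],
  [2, 1, 2, 2, 2, 2, 2, 1],
  [1, 1, 2, 1, 2, 2, 2, 1],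
  [2, 1, 1, 1, 1, 1, 2, 1],
  [2, 1, 2, 2, 1, 2, 1, 1],
  [2, 2, 1, 2, 1, 2, 2, 2],
  [1, 1, 2, 1, 1, 2, 1, 1],
  [1, 2, 1, 1, 1, 2, 2, 2],
  [1, 0, 0, 2, 0, 0, 0, 0],
  [1, 1, 1, 2, 1, 1, 2, 1],
  [1, 1, 2, 1, 2, 1, 2, 2],
  [2, 1, 2, 2, 2, 1, 2, 2],
  [0, 0, 0, 1, 1, 0, 0, 0],
  [2, 0, 0, 0, 1, 0, 0, 0],
  [1, 2, 2, 2, 1, 1, 2, 1],
  [2, 0, 0, 0, 0, 1, 0, 0],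
  [0, 0, 0, 1, 0, 1, 0, 0],
  [1, 1, 1, 2, 1, 1, 1, 2],
  [0, 0, 2, 0, 0, 0, 1, 0],
  [2, 1, 1, 2, 2, 1, 2, 1],
  [1, 1, 1, 1, 2, 1, 2, 1],
  [1, 1, 1, 1, 1, 2, 2, 1],
  [2, 1, 1, 2, 1, 2, 2, 1],
  [1, 2, 1, 2, 2, 2, 2, 2],
  [0, 2, 1, 0, 0, 0, 0, 0],
  [0, 0, 0, 0, 0, 0, 1, 1],
  [0, 0, 0, 0, 1, 0, 0, 2],
  [2, 2, 0, 0, 0, 0, 0, 0],
  [0, 2, 0, 1, 0, 0, 0, 0],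
  [1, 2, 2, 1, 2, 2, 2, 2],
  [2, 2, 2, 2, 2, 2, 2, 2],
  [0, 0, 0, 0, 0, 2, 0, 1],
  [1, 2, 1, 2, 2, 1, 1, 2],
  [0, 0, 0, 2, 0, 0, 1, 0],
  [1, 0, 0, 0, 0, 0, 1, 0],
  [0, 0, 2, 0, 0, 2, 0, 0],
  [1, 1, 1, 2, 1, 2, 2, 2],
  [0, 2, 0, 0, 0, 1, 0, 0],
  [0, 0, 0, 2, 0, 0, 0, 1],
  [1, 0, 0, 0, 0, 0, 0, 1],
  [1, 2, 2, 2, 1, 2, 2, 2],
  [1, 1, 2, 1, 1, 1, 2, 1],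
  [2, 1, 2, 2, 1, 1, 2, 1],
  [0, 2, 0, 0, 1, 0, 0, 0],
  [0, 0, 0, 0, 2, 0, 1, 0],
  [2, 0, 1, 0, 0, 0, 0, 0],
  [0, 0, 1, 1, 0, 0, 0, 0],
  [2, 1, 2, 1, 1, 2, 1, 2],
  [1, 2, 1, 2, 1, 1, 1, 1],
  [1, 1, 2, 2, 1, 1, 2, 2],
  [2, 2, 2, 2, 2, 1, 2, 1],
  [1, 2, 2, 1, 2, 1, 2, 1],
  [2, 2, 1, 1, 2, 2, 2, 2],
  [1, 2, 1, 1, 2, 1, 1, 1],
  [2, 2, 1, 2, 2, 1, 1, 1],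
  [0, 0, 0, 0, 0, 0, 2, 1],
  [0, 1, 1, 0, 0, 0, 0, 0],
  [2, 1, 1, 1, 1, 1, 1, 2],
  [2, 2, 2, 1, 1, 1, 2, 1],
  [0, 0, 2, 0, 0, 1, 0, 0],
  [1, 2, 2, 2, 1, 2, 1, 1],
  [0, 0, 0, 0, 2, 0, 0, 2],
  [0, 0, 0, 0, 1, 0, 1, 0],
  [2, 2, 1, 1, 1, 2, 2, 1],
  [0, 1, 0, 0, 0, 1, 0, 0],
  [1, 1, 1, 2, 2, 2, 2, 1],
  [1, 2, 1, 2, 1, 1, 2, 2]]

/-- Parent and lift. -/
def rootParent : List (ℕ × ℕ) := [(0, 0), (0, 2), (0, 7), (0, 10), (0, 12), (0, 15), (0, 20), (1, 7), (1, 10), (1, 12), (1, 15), (1, 20), (1, 21), (2, 10), (2, 12), (2, 15), (2, 16), (2, 20), (3, 12), (3, 13), (3, 15), (3, 20), (4, 14), (4, 19), (5, 18), (7, 10), (7, 12), (7, 15), (7, 16), (7, 20), (7, 21), (7, 23), (8, 12), (8, 13), (8, 15), (8, 20), (8, 21), (8,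 22), (9, 14), (9, 20), (9, 21), (10, 20), (10, 21), (11, 3), (13, 12), (13, 13), (13, 15), (13, 16), (13, 17), (13, 20), (14, 15), (14, 16), (14, 19), (15, 8), (15, 18), (16, 18), (18, 11), (18, 14), (18, 19), (19, 14), (19, 19), (20, 18), (22, 18), (25, 12), (25, 13), (25, 15), (25, 16), (25, 17), (25, 20), (25, 21), (25, 22), (25, 23), (26, 15), (26, 16), (26, 20), (26, 21), (26, 23), (27, 8), (29, 3), (32, 11), (32, 14), (33, 14), (34, 20), (34, 21), (34, 22), (35, 3), (38, 20), (38, 21), (39, 3), (41, 3), (44, 11), (44, 19), (45, 19), (46, 8), (46, 18), (47, 18), (48, 18), (50, 8), (50, 18), (51, 18), (53, 18), (56, 14), (56, 19), (57, 18), (59, 18), (63, 11), (63, 23), (64, 23), (65, 8), (68, 3), (72, 8), (74, 3),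 (79, 14), (82, 3), (86, 3), (90, 19), (93, 18), (97, 18), (101, 18), (105, 23)]

end H48.O8Std
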