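import Cfsg.Agent.H6.O8Cover.Facts
import Cfsg.Agent.H48.O8Std.Check
import Cfsg.Agent.H48.O8Std.Orbit
import Cfsg.Agent.S0293
import Cfsg.Agent.H53.D4Orth
import Mathlib.GroupTheory.Perm.Sign
import Mathlib.LinearAlgebra.Matrix.Permutation

/-!
The Weyl group of type E₈ modulo three: reflections, its index two subgroup and the bound on its
two-part.
-/

set_option autoImplicit false
set_option maxRecDepth 100000

namespace H48.O8Std

open Subgroup H6.O8
open H76.Exc (toM rmul rsc rgl rwd d4LiftA toM_rmul toM_one toM_two rgl_val rgl_sq liftRelA rwd_val)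

/-- Elements with the same rows are equal. -/
theorem gg_ext {x y : GG} {A : List (List ℕ)}
    (hx : (x : Matrix (Fin 8) (Fin 8) (ZMod 3)) = toM A)
    (hy : (y : Matrix (Fin 8) (Fin 8) (ZMod 3)) = toM A) : x = y :=
  Units.ext (hx.trans hy.symm)

theorem glOf_val {A B : List (List ℕ)} (h : rmul A B = rsc 1 ∧ rmul B A = rsc 1) :
    ((glOf A B : GG) : Matrix (Fin 8) (Fin 8) (ZMod 3)) = toM A := by
  rw [glOf, dif_pos h]

theorem zM_val : ((zM : GG) : Matrix (Fin 8) (Fin 8) (ZMod 3)) = toM (rsc 2) := by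
  rw [zM, Units.val_neg, Units.val_one, toM_two]

theorem gmul_val {x y : GG} {A B : List (List ℕ)}
    (hx : (x : Matrix (Fin 8) (Fin 8) (ZMod 3)) = toM A)
    (hy : (y : Matrix (Fin 8) (Fin 8) (ZMod 3)) = toM B) :
    ((x * y : GG) : Matrix (Fin 8) (Fin 8) (ZMod 3)) = toM (rmul A B) := by
  rw [Units.val_mul, hx, hy, toM_rmul]

theorem zM_comm (g : GG) : zM * g = g * zM := by simp [zM]

theorem zM_sq : zM * zM = (1 : GG) := by simp [zM]

/-- The reflection in a root. -/
def rg (a : List ℕ) : GG := glOf (rrefl a) (rrefl a)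

/-- All vectors with entries modulo three. -/
def allVecs : ℕ → List (List ℕ)
  | 0 => [[]]
  | n + 1 => (allVecs n).flatMap fun v => [0 :: v, 1 :: v, 2 :: v]

theorem mem_allVecs : ∀ (n : ℕ) (a : List ℕ), a.length = n → (∀ c ∈ a, c < 3) → a ∈ allVecs n := by
  intro n
  induction n with
  | zero => intro a h _; rw [List.length_eq_zero_iff.1 h]; exact List.mem_singleton_self _
  | succ n ih =>
    intro a h hc
    match a, h with
    | c :: v, h =>
      have hv := ih v (by simpa using h) fun d hd => hc d (List.mem_cons_of_mem _ hd)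
      refine List.mem_flatMap.2 ⟨v, hv, ?_⟩
      have := hc c List.mem_cons_self
      interval_cases c <;> simp

/-- Roots of a line have the same reflection. -/
def lineOK : Bool :=
  (allVecs 8).all fun a => !isRt a ||
    (rootLines.any fun b => (a == b || a == b.map fun c => (3 - c) % 3))

/-- The parents. -/
def orbitOK : Bool :=
  (List.range 120).all fun i =>
    let a := rootLines.getD i []
    let p := rootParent.getD i (0, 0)
    isRt a && (rmul (rrefl a) (rrefl a) == rsc 1) &&
      (rrefl a == rrefl (a.map fun c => (3 - c) % 3)) &&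
      if i = 0 then rrefl a == rrefl [1, 0, 0, 1, 0, 0, 0, 0]
      else decide (p.1 < i) && decide (p.2 < 24) &&
        (rmul (rmul (d4LiftA.getD p.2 []) (rrefl (rootLines.getD p.1 []))) (d4LiftA.getD p.2 [])
          == rrefl a)

/-- The outer reflection permutes the lifts up to sign, and every lift is a square up to sign. -/
def liftOK : Bool :=
  let R := rrefl [1, 0, 0, 1, 0, 0, 0, 0]
  (H6.O8.mrows [1, 0, 2, 3, 4, 5, 6, 7] [1, 1, 1, 1, 1, 1, 1, 1] == rrefl [1, 2, 0, 0, 0, 0, 0, 0]) && (rwd d4LiftA [23, 11, 23, 11] == rsc 2) &&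
  ((List.range 24).all fun r =>
    ((List.range 24).any fun s =>
      H76.Exc.rEqPM (rmul (rmul R (d4LiftA.getD r [])) R) (d4LiftA.getD s [])) &&
    ((List.range 24).any fun s => (List.range 24).any fun t =>
      let P := rmul (d4LiftA.getD s []) (d4LiftA.getD t [])
      H76.Exc.rEqPM (d4LiftA.getD r []) (rmul P P)))

theorem lineOK_eq : lineOK = true := by decide +kernel

theorem orbitOK_eq : orbitOK = true := by decide +kernel

theorem liftOK_eq : liftOK = true := by decide +kernel

theorem isRt_shape {a : List ℕ} (h : isRt a = true) : a.length = 8 ∧ ∀ c ∈ a, c < 3 := by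
  simp only [isRt, Bool.and_eq_true, beq_iff_eq, List.all_eq_true, decide_eq_true_eq] at h
  exact ⟨h.1.1, h.1.2⟩

/-- Every root is on one of the listed lines. -/
theorem exists_line {a : List ℕ} (h : isRt a = true) :
    ∃ i < 120, rrefl a = rrefl (rootLines.getD i []) := by
  have h1 := lineOK_eq
  simp only [lineOK, List.all_eq_true, Bool.or_eq_true, Bool.not_eq_true', List.any_eq_true,
    beq_iff_eq] at h1
  obtain ⟨hl, hc⟩ := isRt_shape h
  rcases h1 a (mem_allVecs 8 a hl hc) with h' | ⟨b, hb, hab⟩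
  · rw [h] at h'; exact absurd h' (by decide)
  obtain ⟨i, hi, rfl⟩ := List.getElem_of_mem hb
  have hlen : rootLines.length = 120 := by rfl
  refine ⟨i, hlen ▸ hi, ?_⟩
  rw [List.getD_eq_getElem _ _ hi]
  rcases hab with rfl | rfl
  · rfl
  have h2 := orbitOK_eq
  simp only [orbitOK, List.all_eq_true, List.mem_range, Bool.and_eq_true, beq_iff_eq] at h2
  have h3 := (h2 i (hlen ▸ hi)).1.2
  rw [List.getD_eq_getElem _ _ hi] at h3
  exact h3.symm

theorem rg_val {a : List ℕ} (h : isRt a = true) :
    ((rg a : GG) : Matrix (Fin 8) (Fin 8) (ZMod 3)) = toM (rrefl a) := by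
  obtain ⟨i, hi, e⟩ := exists_line h
  have h2 := orbitOK_eq
  simp only [orbitOK, List.all_eq_true, List.mem_range, Bool.and_eq_true, beq_iff_eq] at h2
  have h3 := (h2 i hi).1.1.2
  rw [← e] at h3
  exact glOf_val ⟨h3, h3⟩

theorem rg_sq {a : List ℕ} (h : isRt a = true) : rg a * rg a = 1 := by
  obtain ⟨i, hi, e⟩ := exists_line h
  have h2 := orbitOK_eq
  simp only [orbitOK, List.all_eq_true, List.mem_range, Bool.and_eq_true, beq_iff_eq] at h2
  have h3 := (h2 i hi).1.1.2
  rw [← e] at h3
  exact Units.ext (by rw [gmul_val (rg_val h) (rg_val h), h3, toM_one, Units.val_one])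

theorem rg_inv {a : List ℕ} (h : isRt a = true) : (rg a)⁻¹ = rg a :=
  inv_eq_of_mul_eq_one_right (rg_sq h)

/-- The reflection permuting the lifts up to sign. -/
def g0 : GG := rg [1, 0, 0, 1, 0, 0, 0, 0]

theorem g0_rt : isRt [1, 0, 0, 1, 0, 0, 0, 0] = true := by decide +kernel

theorem r0_rt : isRt [1, 2, 0, 0, 0, 0, 0, 0] = true := by decide +kernel

theorem rR_eq : (rR : GG) = rg [1, 2, 0, 0, 0, 0, 0, 0] := by
  refine gg_ext ?_ (rg_val r0_rt)
  have h := liftOK_eq
  simp only [liftOK, Bool.and_eq_true, beq_iff_eq] at h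
  rw [← h.1.1]
  show ((mono [1, 0, 2, 3, 4, 5, 6, 7] [1, 1, 1, 1, 1, 1, 1, 1] : GG) :
    Matrix (Fin 8) (Fin 8) (ZMod 3)) = _
  rw [mono, glOf_val (by decide +kernel)]

theorem rR_sq : rR * rR = (1 : GG) := by rw [rR_eq, rg_sq r0_rt]

theorem rR_inv : (rR : GG)⁻¹ = rR := inv_eq_of_mul_eq_one_right rR_sq

theorem rgl_mem {r : ℕ} (hr : r < 24) : rgl d4LiftA r ∈ MM := subset_closure ⟨r, hr, rfl⟩

theorem zM_mem : zM ∈ MM := by
  have h := liftOK_eq
  simp only [liftOK, Bool.and_eq_true, beq_iff_eq] at h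
  have e : (zM : GG) = ([23, 11, 23, 11].map (rgl d4LiftA)).prod :=
    gg_ext zM_val ((rwd_val liftRelA [23, 11, 23, 11] (by simp)).trans (by rw [h.1.2]))
  rw [e]
  refine list_prod_mem fun g hg => ?_
  obtain ⟨r, hr, rfl⟩ := List.mem_map.1 hg
  exact rgl_mem (by fin_cases hr <;> norm_num)

/-- The reflection permutes the lifts, so normalises the cover. -/
theorem g0_conj_mem {g : GG} (hg : g ∈ MM) : g0 * g * g0 ∈ MM := by
  have hi : (g0 : GG)⁻¹ = g0 := rg_inv g0_rt
  have key : MM ≤ MM.comap (MulAut.conj (g0 : GG)).toMonoidHom := by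
    refine (closure_le _).2 ?_
    rintro g ⟨r, hr, rfl⟩
    show MulAut.conj (g0 : GG) (rgl d4LiftA r) ∈ MM
    have h := liftOK_eq
    simp only [liftOK, Bool.and_eq_true, beq_iff_eq, List.all_eq_true, List.any_eq_true,
      List.mem_range, H76.Exc.rEqPM, Bool.or_eq_true] at h
    obtain ⟨s, hs, hrs⟩ := (h.2 r hr).1
    rw [MulAut.conj_apply, hi]
    have hv := gmul_val (gmul_val (rg_val g0_rt) (rgl_val liftRelA hr)) (rg_val g0_rt)
    rcases hrs with e | e
    · rw [e] at hv
      rw [show g0 * rgl d4LiftA r * g0 = rgl d4LiftA s from gg_ext hv (rgl_val liftRelA hs)]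
      exact rgl_mem hs
    · rw [e] at hv
      rw [show g0 * rgl d4LiftA r * g0 = zM * rgl d4LiftA s from
        gg_ext hv (gmul_val zM_val (rgl_val liftRelA hs))]
      exact mul_mem zM_mem (rgl_mem hs)
  simpa [hi] using key hg

/-- Every reflection is a conjugate of the distinguished one under the cover. -/
theorem exists_conj {a : List ℕ} (h : isRt a = true) : ∃ m ∈ MM, m * g0 * m⁻¹ = rg a := by
  obtain ⟨i, hi, e⟩ := exists_line h
  have e' : rg a = rg (rootLines.getD i []) := by simp only [rg, e]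
  rw [e']
  clear e e' h
  have h2 := orbitOK_eq
  simp only [orbitOK, List.all_eq_true, List.mem_range, Bool.and_eq_true, beq_iff_eq] at h2
  induction i using Nat.strong_induction_on with
  | _ i ih =>
    have hi2 := h2 i hi
    have hv := rg_val hi2.1.1.1
    rcases Nat.eq_zero_or_pos i with rfl | hpos
    · have h3 := hi2.2
      rw [if_pos rfl, beq_iff_eq] at h3
      exact ⟨1, one_mem _, by rw [one_mul, inv_one, mul_one, g0, rg, rg, h3]⟩
    · have h3 := hi2.2
      rw [if_neg hpos.ne'] at h3
      simp only [Bool.and_eq_true, beq_iff_eq, decide_eq_true_eq] at h3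
      obtain ⟨⟨hp, hr⟩, hm⟩ := h3
      obtain ⟨m, hm', hme⟩ := ih _ hp (hp.trans hi)
      refine ⟨rgl d4LiftA (rootParent.getD i (0, 0)).2 * m, mul_mem (rgl_mem hr) hm', ?_⟩
      rw [← hm] at hv
      rw [gg_ext hv (gmul_val (gmul_val (rgl_val liftRelA hr)
        (rg_val (h2 _ (hp.trans hi)).1.1.1)) (rgl_val liftRelA hr)), ← hme, mul_inv_rev,
        H76.Exc.rgl_inv liftRelA hr]
      simp only [mul_assoc]

/-- The outer reflection normalises the cover. -/
theorem rR_conj_mem {g : GG} (hg : g ∈ MM) : rR * g * rR ∈ MM := by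
  obtain ⟨m, hm, e⟩ := exists_conj r0_rt
  have := mul_mem (mul_mem hm (g0_conj_mem (mul_mem (mul_mem (inv_mem hm) hg) hm))) (inv_mem hm)
  rw [rR_eq, ← e]
  simpa only [mul_assoc] using this

theorem mem_WW_iff {g : GG} : g ∈ WW ↔ g ∈ MM ∨ g * rR ∈ MM := by
  constructor
  · intro hg
    rw [WW, zpowers_eq_closure, ← Subgroup.closure_eq MM, ← Subgroup.closure_union] at hg
    induction hg using closure_induction with
    | mem x hx =>
      rcases hx with hx | hx
      · exact Or.inl hx
      · rw [Set.mem_singleton_iff.1 hx, rR_sq]; exact Or.inr (one_mem _)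
    | one => exact Or.inl (one_mem _)
    | mul x y _ _ hx hy =>
      rcases hx with hx | hx <;> rcases hy with hy | hy
      · exact Or.inl (mul_mem hx hy)
      · exact Or.inr (by rw [mul_assoc]; exact mul_mem hx hy)
      · refine Or.inr ?_
        have := mul_mem hx (rR_conj_mem hy)
        simpa [← mul_assoc, mul_assoc x rR rR, rR_sq] using this
      · refine Or.inl ?_
        have := mul_mem hx (rR_conj_mem hy)
        simpa [← mul_assoc, mul_assoc x rR rR, rR_sq, mul_assoc _ rR rR] using this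
    | inv x _ hx =>
      rcases hx with hx | hx
      · exact Or.inl (inv_mem hx)
      · refine Or.inr ?_
        have := rR_conj_mem (inv_mem hx)
        simpa [mul_inv_rev, rR_inv, ← mul_assoc, rR_sq] using this
  · rintro (hg | hg)
    · exact mem_sup_left hg
    · have := mul_mem (mem_sup_left hg : g * rR ∈ WW)
        (mem_sup_right (mem_zpowers (rR : GG)) : rR ∈ WW)
      rwa [mul_assoc, rR_sq, mul_one] at this

theorem MM_le : MM ≤ WW := le_sup_left

theorem rR_mem : rR ∈ WW := mem_sup_right (mem_zpowers _)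

set_option maxHeartbeats 800000 in
theorem WW_conj {w g : GG} (hw : w ∈ WW) (hg : g ∈ MM) : w * g * w⁻¹ ∈ MM := by
  rcases mem_WW_iff.1 hw with h | h
  · exact mul_mem (mul_mem h hg) (inv_mem h)
  · have := mul_mem (mul_mem h (rR_conj_mem hg)) (inv_mem h)
    have e : w * rR * (rR * g * rR) * (w * rR)⁻¹ = w * g * w⁻¹ := by
      rw [mul_inv_rev, rR_inv, show w * rR * (rR * g * rR) * (rR * w⁻¹) =
        w * (rR * rR) * g * (rR * rR) * w⁻¹ by group, rR_sq, mul_one, mul_one]
    rwa [e] at this

/-- Every reflection is in the Weyl group. -/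
theorem rg_mem {a : List ℕ} (h : isRt a = true) : rg a ∈ WW := by
  obtain ⟨m, hm, e⟩ := exists_conj r0_rt
  obtain ⟨m', hm', e'⟩ := exists_conj h
  have hg : g0 = m⁻¹ * rR * m := by rw [rR_eq, ← e]; group
  rw [← e', hg]
  exact mul_mem (mul_mem (MM_le hm') (mul_mem (mul_mem (MM_le (inv_mem hm)) rR_mem) (MM_le hm)))
    (MM_le (inv_mem hm'))

/-- The determinant is one on the cover. -/
theorem det_MM {g : GG} (hg : g ∈ MM) : Matrix.GeneralLinearGroup.det g = 1 := by
  suffices h : MM ≤ (Matrix.GeneralLinearGroup.det (n := Fin 8) (R := ZMod 3)).ker from h hg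
  refine (closure_le _).2 ?_
  rintro g ⟨r, hr, rfl⟩
  have h := liftOK_eq
  simp only [liftOK, Bool.and_eq_true, beq_iff_eq, List.all_eq_true, List.any_eq_true,
    List.mem_range, H76.Exc.rEqPM, Bool.or_eq_true] at h
  obtain ⟨s, hs, t, ht, hst⟩ := (h.2 r hr).2
  have hsq : ∀ u : (ZMod 3)ˣ, u * u = 1 := by decide
  have hz : Matrix.GeneralLinearGroup.det (zM : GG) = 1 :=
    Units.ext (by
      rw [Matrix.GeneralLinearGroup.val_det_apply, zM, Units.val_neg, Units.val_one,
        Matrix.det_neg, Matrix.det_one, Units.val_one]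
      decide)
  have hp := gmul_val (gmul_val (rgl_val liftRelA hs) (rgl_val liftRelA ht))
    (gmul_val (rgl_val liftRelA hs) (rgl_val liftRelA ht))
  show Matrix.GeneralLinearGroup.det (rgl d4LiftA r) = 1
  rcases hst with e | e
  · rw [← e] at hp
    rw [gg_ext (rgl_val liftRelA hr) hp, map_mul, hsq]
  · have hv := rgl_val liftRelA hr
    rw [e] at hv
    rw [gg_ext hv (gmul_val zM_val hp), map_mul, hz, one_mul, map_mul, hsq]

theorem rR_det : Matrix.GeneralLinearGroup.det (rR : GG) ≠ 1 := by
  intro h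
  have h' := congrArg Units.val h
  rw [Matrix.GeneralLinearGroup.val_det_apply, rR_eq, rg_val r0_rt, Units.val_one] at h'
  rw [show toM (rrefl [1, 2, 0, 0, 0, 0, 0, 0]) =
      (Equiv.swap (0 : Fin 8) 1).permMatrix (ZMod 3) by decide +kernel,
    Matrix.det_permutation, Equiv.Perm.sign_swap (by decide)] at h'
  exact absurd h' (by decide)

theorem rR_not_mem : rR ∉ MM := fun h => rR_det (det_MM h)

/-- The two-part of the cover. -/
theorem not_dvd_card_MM : ¬ 2 ^ 14 ∣ Nat.card MM := by
  classical
  let π : MM →* GG ⧸ center GG := (QuotientGroup.mk' (center GG)).comp MM.subtype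
  obtain ⟨f, hf⟩ := H76.Exc.exists_liftHom (F := ZMod 2) (L := d4LiftA) liftRelA (by simp)
  have hr : π.range ≤ f.range := by
    rw [MonoidHom.range_eq_map]
    intro x hx
    obtain ⟨⟨g, hg⟩, -, rfl⟩ := hx
    show QuotientGroup.mk' (center GG) g ∈ f.range
    have : MM ≤ f.range.comap (QuotientGroup.mk' (center GG)) := by
      refine (closure_le _).2 ?_
      rintro g ⟨r, hr, rfl⟩
      exact ⟨_, hf r hr⟩
    exact this hg
  obtain ⟨e⟩ := H53.D4Orth.d4_iso (F := ZMod 2)
  have hcard := Cfsg.Agent.S0293.result (F := ZMod 2) (q := 2) (by simp) 4 le_rfl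
  rw [← Nat.card_congr e.toEquiv] at hcard
  norm_num [Finset.prod_range_succ, -Nat.card_eq_fintype_card] at hcard
  have hrange : Nat.card π.range ∣ 174182400 := by
    have h1 : Nat.card π.range ∣ Nat.card f.range := Subgroup.card_dvd_of_le hr
    have h2 := Subgroup.card_range_dvd f
    exact (h1.trans h2).trans (by rw [hcard])
  have hker : Nat.card π.ker ∣ 2 := by
    let ι : π.ker →* zpowers (zM : GG) :=
      (MM.subtype.comp π.ker.subtype).codRestrict _ fun g => by
        have h := (QuotientGroup.eq_one_iff _).1 (show QuotientGroup.mk' (center GG)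
          ((g : MM) : GG) = 1 from g.2)
        rcases H76.Exc.center_eq_pm (F := ZMod 2) (by simp) h with e | e
        · show ((g : MM) : GG) ∈ _
          rw [e]; exact one_mem _
        · show ((g : MM) : GG) ∈ _
          rw [e]; exact mem_zpowers _
    have hinj : Function.Injective ι := fun a b h =>
      Subtype.ext (Subtype.ext (congrArg (fun x : zpowers (zM : GG) => (x : GG)) h))
    refine (Subgroup.card_dvd_of_injective ι hinj).trans ?_
    rw [Nat.card_zpowers]
    exact orderOf_dvd_of_pow_eq_one (by rw [pow_two, zM_sq])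
  intro h
  have hd : Nat.card MM ∣ 2 * 174182400 := by
    rw [Subgroup.card_eq_card_quotient_mul_card_subgroup π.ker,
      Nat.card_congr (QuotientGroup.quotientKerEquivRange π).toEquiv, mul_comm]
    exact Nat.mul_dvd_mul hker hrange
  exact absurd (h.trans hd) (by norm_num)

/-- The two-part of the Weyl group. -/
theorem not_dvd_card_WW : ¬ 2 ^ 15 ∣ Nat.card WW := by
  classical
  let d : WW →* (ZMod 3)ˣ := Matrix.GeneralLinearGroup.det.comp WW.subtype
  have hk : d.ker = MM.subgroupOf WW := by
    ext ⟨g, hg⟩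
    rw [MonoidHom.mem_ker, mem_subgroupOf]
    show Matrix.GeneralLinearGroup.det g = 1 ↔ g ∈ MM
    refine ⟨fun h => ?_, det_MM⟩
    rcases mem_WW_iff.1 hg with h' | h'
    · exact h'
    · have := det_MM h'
      rw [map_mul, h, one_mul] at this
      exact absurd this rR_det
  have hd : Nat.card WW ∣ 2 * Nat.card MM := by
    rw [Subgroup.card_eq_card_quotient_mul_card_subgroup d.ker,
      Nat.card_congr (QuotientGroup.quotientKerEquivRange d).toEquiv]
    refine Nat.mul_dvd_mul ?_ ?_
    · have := Subgroup.card_subgroup_dvd_card d.range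
      rwa [Nat.card_eq_fintype_card (α := (ZMod 3)ˣ), show Fintype.card (ZMod 3)ˣ = 2 by decide]
        at this
    · rw [hk, Nat.card_congr (Subgroup.subgroupOfEquivOfLe MM_le).toEquiv]
  intro h
  refine not_dvd_card_MM ?_
  have := h.trans hd
  rw [pow_succ'] at this
  exact Nat.dvd_of_mul_dvd_mul_left two_pos this

end H48.O8Std
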