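import Cfsg.Agent.H48.O8Std.Base

/-!
The elements with square plus or minus one of the Weyl group of type E₈ modulo three, up to
conjugacy: every such element is conjugate into the Sylow subgroup of signed permutation matrices
and there a table gives the conjugating reflections.
-/

set_option autoImplicit false
set_option maxRecDepth 100000

namespace H48.O8Std

open Subgroup H6.O8
open H76.Exc (toM rmul rsc toM_rmul toM_one toM_two)

/-- The shapes of the sign changes and block permutations. -/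
def shapeOK : Bool :=
  ((List.range 128).all fun b => (List.range 8).all fun i => (signCode b).getD i 0 / 2 == i) &&
  ((List.range 128).all fun k => (blockPerms.getD k []).all fun c => c % 2 == 0) &&
  decide blockPerms.Nodup && decide ((List.range 128).map signCode).Nodup &&
  (decide (blockPerms.length = 128)) && (signCode 0 == mone) && (blockPerms.getD 0 [] == mone)

/-- Words for the generating sign changes. -/
def signWord (i : ℕ) : List ℕ := let t := [12, 24, 34, 42, 48, 52, 54].getD i 0; [t, t + 1]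

/-- The generators and their parents. -/
def genOK : Bool :=
  ((List.range 7).all fun i =>
    ((signWord i).foldl (fun q t => mcomp q (cCode t)) mone == signCode (2 ^ i)) &&
      (signWord i).all (· < 56)) &&
  ((List.range 3).all fun g => (blockGenWords.getD g []).all (· < 56) &&
    let c := (blockGenWords.getD g []).foldl (fun q t => mcomp q (cCode t)) mone
    mcomp c c == mone) &&
  ((List.range 128).all fun k => (k == 0) ||
    let p := blockParent.getD k (0, 0)
    decide (p.1 < k) && decide (p.2 < 3) &&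
      (mcomp (blockPerms.getD p.1 [])
        ((blockGenWords.getD p.2 []).foldl (fun q t => mcomp q (cCode t)) mone) ==
        blockPerms.getD k [])) &&
  ((List.range 128).all fun b => (b == 0) ||
    (List.range 7).any fun i => decide (b ^^^ 2 ^ i < b))

/-- Words for the representatives. -/
def repWords : List (List ℕ) := [[], [0, 1, 26, 27, 44, 45, 54, 55], [0, 1],
  [26, 27, 44, 45, 54, 55], [0, 1, 26, 27], [0, 26, 44, 54, 54, 55], [0],
  [0, 0, 1, 26, 27, 44, 45, 54, 55], [0, 26, 44], [0, 26, 44, 0, 1, 26, 27, 44, 45, 54, 55],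
  [0, 26, 44, 54, 2, 3, 46, 47]]

/-- The words give the representatives. -/
def repOK : Bool :=
  (List.range 11).all fun r => (repWords.getD r []).all (· < 56) &&
    ((repWords.getD r []).foldl (fun q t => mcomp q (cCode t)) mone == classReps.getD r [])

theorem shapeOK_eq : shapeOK = true := by decide +kernel

theorem genOK_eq : genOK = true := by decide +kernel

theorem repOK_eq : repOK = true := by decide +kernel

theorem toM_mrows_apply (p : List ℕ) (i j : Fin 8) : toM (mrows p) i j =
    if p.getD j.val 0 / 2 = i.val then ((1 + p.getD j.val 0 % 2 : ℕ) : ZMod 3) else 0 := by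
  simp only [toM, mrows, Matrix.of_apply, List.getD_eq_getElem?_getD, List.getElem?_ofFn,
    i.isLt, j.isLt, dif_pos, Option.getD_some]
  split_ifs <;> simp

theorem isCode_iff {p : List ℕ} : isCode p = true ↔ p.length = 8 ∧ ∀ c ∈ p, c < 16 := by
  simp [isCode, List.all_eq_true]

theorem code_getD {p : List ℕ} (h : isCode p = true) (j : ℕ) : p.getD j 0 < 16 := by
  obtain ⟨-, hc⟩ := isCode_iff.1 h
  by_cases hj : j < p.length
  · rw [List.getD_eq_getElem _ _ hj]; exact hc _ (List.getElem_mem hj)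
  · rw [List.getD_eq_default _ _ (not_lt.1 hj)]; norm_num

theorem mcomp_getD (p : List ℕ) {q : List ℕ} {j : ℕ} (hj : j < q.length) :
    (mcomp p q).getD j 0 = p.getD (q.getD j 0 / 2) 0 / 2 * 2 +
      (p.getD (q.getD j 0 / 2) 0 + q.getD j 0) % 2 := by
  rw [List.getD_eq_getElem _ _ (by simpa [mcomp] using hj), List.getD_eq_getElem q _ hj]
  simp [mcomp]

theorem isCode_mcomp {p q : List ℕ} (hp : isCode p = true) (hq : isCode q = true) :
    isCode (mcomp p q) = true := by
  obtain ⟨hl, hc⟩ := isCode_iff.1 hq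
  refine isCode_iff.2 ⟨by simpa [mcomp] using hl, fun c hc' => ?_⟩
  obtain ⟨d, hd, rfl⟩ := List.mem_map.1 hc'
  have := code_getD hp (d / 2)
  omega

theorem isCode_mone : isCode mone = true := by decide +kernel

theorem toM_mcomp (p : List ℕ) {q : List ℕ} (hq : isCode q = true) :
    toM (mrows (mcomp p q)) = toM (mrows p) * toM (mrows q) := by
  ext i j
  have hlt : q.getD j.val 0 / 2 < 8 := by have := code_getD hq j.val; omega
  rw [Matrix.mul_apply, Finset.sum_eq_single (⟨q.getD j.val 0 / 2, hlt⟩ : Fin 8)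
    (fun k _ hk => by
      rw [toM_mrows_apply q k j, if_neg (fun e => hk (Fin.ext e.symm)), mul_zero])
    (fun h => absurd (Finset.mem_univ _) h)]
  rw [toM_mrows_apply, toM_mrows_apply, toM_mrows_apply,
    mcomp_getD p (by rw [(isCode_iff.1 hq).1]; exact j.isLt), if_pos rfl]
  generalize p.getD (q.getD j.val 0 / 2) 0 = a
  generalize q.getD j.val 0 = b
  rw [show (a / 2 * 2 + (a + b) % 2) / 2 = a / 2 by omega,
    show (a / 2 * 2 + (a + b) % 2) % 2 = (a + b) % 2 by omega]
  split_ifs
  · rcases Nat.mod_two_eq_zero_or_one a with h | h <;>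
      rcases Nat.mod_two_eq_zero_or_one b with h' | h' <;>
        rw [Nat.add_mod, h, h'] <;> decide
  · rw [zero_mul]

/-- Signed permutation matrices determine the code. -/
theorem code_ext {p q : List ℕ} (hp : isCode p = true) (hq : isCode q = true)
    (h : toM (mrows p) = toM (mrows q)) : p = q := by
  refine List.ext_getElem (by rw [(isCode_iff.1 hp).1, (isCode_iff.1 hq).1]) fun j hj hj' => ?_
  have hj8 : j < 8 := by rwa [(isCode_iff.1 hp).1] at hj
  have hlt : q.getD j 0 / 2 < 8 := by have := code_getD hq j; omega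
  have e := congrFun (congrFun h ⟨q.getD j 0 / 2, hlt⟩) ⟨j, hj8⟩
  rw [toM_mrows_apply, toM_mrows_apply, if_pos rfl] at e
  simp only at e
  rw [← List.getD_eq_getElem _ 0 hj, ← List.getD_eq_getElem _ 0 hj']
  split_ifs at e with h'
  · rcases Nat.mod_two_eq_zero_or_one (p.getD j 0) with a | a <;>
      rcases Nat.mod_two_eq_zero_or_one (q.getD j 0) with b | b <;> rw [a, b] at e <;>
        first
        | omega
        | exact absurd e (by decide)
  · rcases Nat.mod_two_eq_zero_or_one (q.getD j 0) with b | b <;> rw [b] at e <;>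
      exact absurd e (by decide)

theorem toM_mone : toM (mrows mone) = 1 := by decide +kernel

/-- A coordinate reflection. -/
def cg (t : ℕ) : GG := rg (cRoot t)

/-- A product of coordinate reflections. -/
def mg (w : List ℕ) : GG := (w.map cg).prod

theorem cg_props {t : ℕ} (ht : t < 56) : isRt (cRoot t) = true ∧ isCode (cCode t) = true ∧
    ((cg t : GG) : Matrix (Fin 8) (Fin 8) (ZMod 3)) = toM (mrows (cCode t)) := by
  have h := cReflOK_eq
  simp only [cReflOK, List.all_eq_true, List.mem_range, Bool.and_eq_true, beq_iff_eq] at h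
  obtain ⟨⟨h1, h2⟩, h3⟩ := h t ht
  exact ⟨h2, h3, by rw [cg, rg_val h2, h1]⟩

theorem mg_props : ∀ {w : List ℕ}, (∀ t ∈ w, t < 56) →
    mg w ∈ WW ∧ ∀ p : List ℕ, isCode p = true →
      isCode (w.foldl (fun q t => mcomp q (cCode t)) p) = true ∧
      toM (mrows p) * ((mg w : GG) : Matrix (Fin 8) (Fin 8) (ZMod 3)) =
        toM (mrows (w.foldl (fun q t => mcomp q (cCode t)) p)) := by
  intro w
  induction w with
  | nil => intro _; exact ⟨one_mem _, fun p hp => ⟨hp, by simp [mg]⟩⟩
  | cons t w ih =>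
    intro hw
    obtain ⟨h1, h2, h3⟩ := cg_props (hw t List.mem_cons_self)
    obtain ⟨i1, i2⟩ := ih fun u hu => hw u (List.mem_cons_of_mem _ hu)
    refine ⟨?_, fun p hp => ?_⟩
    · rw [mg, List.map_cons, List.prod_cons]; exact mul_mem (rg_mem h1) i1
    · obtain ⟨j1, j2⟩ := i2 _ (isCode_mcomp hp h2)
      refine ⟨j1, ?_⟩
      rw [List.foldl_cons, ← j2, toM_mcomp p h2, mg, List.map_cons, List.prod_cons, Units.val_mul,
        h3, mul_assoc]
      rfl

theorem mg_val {w : List ℕ} (hw : ∀ t ∈ w, t < 56) :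
    ((mg w : GG) : Matrix (Fin 8) (Fin 8) (ZMod 3)) =
      toM (mrows (w.foldl (fun q t => mcomp q (cCode t)) mone)) := by
  rw [← ((mg_props hw).2 mone isCode_mone).2, toM_mone, one_mul]

/-- A sign change, as a unit. -/
def sgu (i : ℕ) : GG := mg (signWord i)

/-- A block generator, as a unit. -/
def bgu (g : ℕ) : GG := mg (blockGenWords.getD g [])

/-- The generators of the Sylow subgroup of signed permutations. -/
def sylGens : Set GG := {x | (∃ i < 7, x = sgu i) ∨ ∃ g < 3, x = bgu g}

/-- The Sylow subgroup of signed permutations. -/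
def SS : Subgroup GG := closure sylGens

theorem sgu_props {i : ℕ} (hi : i < 7) : sgu i ∈ WW ∧ sgu i ∈ SS ∧
    ((sgu i : GG) : Matrix (Fin 8) (Fin 8) (ZMod 3)) = toM (mrows (signCode (2 ^ i))) := by
  have h := genOK_eq
  simp only [genOK, Bool.and_eq_true, List.all_eq_true, List.mem_range, beq_iff_eq,
    decide_eq_true_eq] at h
  obtain ⟨h1, h2⟩ := h.1.1.1 i hi
  exact ⟨(mg_props h2).1, subset_closure (Or.inl ⟨i, hi, rfl⟩), by rw [sgu, mg_val h2, h1]⟩

theorem bgu_props {g : ℕ} (hg : g < 3) : bgu g ∈ WW ∧ bgu g ∈ SS ∧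
    ((bgu g : GG) : Matrix (Fin 8) (Fin 8) (ZMod 3)) =
      toM (mrows ((blockGenWords.getD g []).foldl (fun q t => mcomp q (cCode t)) mone)) := by
  have h := genOK_eq
  simp only [genOK, Bool.and_eq_true, List.all_eq_true, List.mem_range, beq_iff_eq,
    decide_eq_true_eq] at h
  obtain ⟨h1, -⟩ := h.1.1.2 g hg
  exact ⟨(mg_props h1).1, subset_closure (Or.inr ⟨g, hg, rfl⟩), by rw [bgu, mg_val h1]⟩

theorem SS_le : SS ≤ WW := (closure_le _).2 (by
  rintro x (⟨i, hi, rfl⟩ | ⟨g, hg, rfl⟩)
  · exact (sgu_props hi).1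
  · exact (bgu_props hg).1)

theorem sign_code {b : ℕ} (hb : b < 128) : isCode (signCode b) = true ∧
    (∀ i < 7, mcomp (signCode (2 ^ i)) (signCode b) = signCode (b ^^^ 2 ^ i)) := by
  have h := signMulOK_eq
  simp only [signMulOK, Bool.and_eq_true, List.all_eq_true, List.mem_range, beq_iff_eq] at h
  exact h b hb

theorem perm_code {k : ℕ} (hk : k < 128) : isCode (blockPerms.getD k []) = true := by
  have h := genMulOK_eq
  simp only [genMulOK, Bool.and_eq_true, List.all_eq_true, List.mem_range, beq_iff_eq] at h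
  exact (h.2 k hk).1

theorem pCode_code {k b : ℕ} (hk : k < 128) (hb : b < 128) : isCode (pCode k b) = true :=
  isCode_mcomp (sign_code hb).1 (perm_code hk)

theorem toM_pCode {k b : ℕ} (hk : k < 128) : toM (mrows (pCode k b)) =
    toM (mrows (signCode b)) * toM (mrows (blockPerms.getD k [])) :=
  toM_mcomp _ (perm_code hk)

/-- Elements of the Sylow subgroup are listed. -/
theorem SS_list {x : GG} (hx : x ∈ SS) : ∃ k b, k < 128 ∧ b < 128 ∧
    ((x : GG) : Matrix (Fin 8) (Fin 8) (ZMod 3)) = toM (mrows (pCode k b)) := by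
  have hS := shapeOK_eq
  simp only [shapeOK, Bool.and_eq_true, beq_iff_eq, decide_eq_true_eq] at hS
  have hlen : blockPerms.length = 128 := hS.1.1.2
  have hB := genMulOK_eq
  simp only [genMulOK, Bool.and_eq_true, List.all_eq_true, List.mem_range, beq_iff_eq,
    decide_eq_true_eq, List.contains_iff_mem] at hB
  have hgv : ∀ g < 3, isCode (genCode g) = true ∧
      ((bgu g : GG) : Matrix (Fin 8) (Fin 8) (ZMod 3)) = toM (mrows (genCode g)) := by
    intro g hg
    refine ⟨by interval_cases g <;> decide +kernel, ?_⟩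
    rw [(bgu_props hg).2.2, (hB.1 g hg).1]
  have hinv : ∀ y ∈ sylGens, y⁻¹ = y := by
    rintro y (⟨i, hi, rfl⟩ | ⟨g, hg, rfl⟩) <;> refine inv_eq_of_mul_eq_one_right (Units.ext ?_)
    · have hi' : 2 ^ i < 128 := by interval_cases i <;> norm_num
      rw [Units.val_mul, (sgu_props hi).2.2, ← toM_mcomp _ (sign_code hi').1,
        (sign_code hi').2 _ hi, Nat.xor_self, hS.1.2, toM_mone, Units.val_one]
    · rw [Units.val_mul, (hgv g hg).2, ← toM_mcomp _ (hgv g hg).1, Units.val_one, ← toM_mone]
      congr 2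
      interval_cases g <;> decide +kernel
  have key : ∀ (y : GG) (k b : ℕ), k < 128 → b < 128 →
      ((y : GG) : Matrix (Fin 8) (Fin 8) (ZMod 3)) = toM (mrows (pCode k b)) →
      ∀ s ∈ sylGens, ∃ k' b', k' < 128 ∧ b' < 128 ∧
        ((s * y : GG) : Matrix (Fin 8) (Fin 8) (ZMod 3)) = toM (mrows (pCode k' b')) := by
    rintro y k b hk hb hy s (⟨i, hi, rfl⟩ | ⟨g, hg, rfl⟩)
    · have hi' : 2 ^ i < 128 := by interval_cases i <;> norm_num
      refine ⟨k, b ^^^ 2 ^ i, hk, Nat.xor_lt_two_pow (n := 7) hb hi', ?_⟩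
      rw [Units.val_mul, hy, (sgu_props hi).2.2, toM_pCode hk, toM_pCode hk, ← mul_assoc,
        ← toM_mcomp _ (sign_code hb).1, (sign_code hb).2 i hi]
    · obtain ⟨hc, hgc⟩ := (hB.1 g hg).2 b hb
      obtain ⟨l, hl, hkl⟩ := List.getElem_of_mem ((hB.2 k hk).2 g hg)
      have hl' : l < 128 := hlen ▸ hl
      refine ⟨l, signPast g b, hl', hc, ?_⟩
      rw [Units.val_mul, hy, (hgv g hg).2, toM_pCode hk, toM_pCode hl', ← mul_assoc,
        ← toM_mcomp _ (sign_code hb).1, hgc, toM_mcomp _ (hgv g hg).1, mul_assoc,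
        ← toM_mcomp _ (perm_code hk), List.getD_eq_getElem _ _ hl, hkl]
  induction hx using closure_induction_left with
  | one => exact ⟨0, 0, by norm_num, by norm_num, by
      rw [pCode, hS.1.2, hS.2, Units.val_one]; decide +kernel⟩
  | mul_left s hs y _ ih =>
    obtain ⟨k, b, hk, hb, hy⟩ := ih
    exact key y k b hk hb hy s hs
  | inv_mul_cancel s hs y _ ih =>
    obtain ⟨k, b, hk, hb, hy⟩ := ih
    rw [hinv s hs]
    exact key y k b hk hb hy s hs

theorem sign_mem : ∀ b < 128, ∃ x ∈ SS,
    ((x : GG) : Matrix (Fin 8) (Fin 8) (ZMod 3)) = toM (mrows (signCode b)) := by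
  have hS := shapeOK_eq
  simp only [shapeOK, Bool.and_eq_true, beq_iff_eq] at hS
  intro b
  induction b using Nat.strong_induction_on with
  | _ b ih =>
    intro hb
    rcases Nat.eq_zero_or_pos b with rfl | hpos
    · exact ⟨1, one_mem _, by rw [hS.1.2, toM_mone, Units.val_one]⟩
    have h := genOK_eq
    simp only [genOK, Bool.and_eq_true, Bool.or_eq_true, List.all_eq_true, List.any_eq_true,
      List.mem_range, beq_iff_eq, decide_eq_true_eq] at h
    rcases h.2 b hb with h' | ⟨i, hi, hlt⟩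
    · omega
    obtain ⟨x, hx, hxv⟩ := ih _ hlt (by omega)
    have hi' : 2 ^ i < 128 := by interval_cases i <;> norm_num
    refine ⟨sgu i * x, mul_mem (sgu_props hi).2.1 hx, ?_⟩
    rw [Units.val_mul, hxv, (sgu_props hi).2.2, ← toM_mcomp _ (sign_code (by omega)).1,
      (sign_code (by omega)).2 _ hi, Nat.xor_assoc, Nat.xor_self, Nat.xor_zero]

theorem perm_mem : ∀ k < 128, ∃ x ∈ SS,
    ((x : GG) : Matrix (Fin 8) (Fin 8) (ZMod 3)) = toM (mrows (blockPerms.getD k [])) := by
  have hS := shapeOK_eq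
  simp only [shapeOK, Bool.and_eq_true, beq_iff_eq] at hS
  intro k
  induction k using Nat.strong_induction_on with
  | _ k ih =>
    intro hk
    rcases Nat.eq_zero_or_pos k with rfl | hpos
    · exact ⟨1, one_mem _, by rw [hS.2, toM_mone, Units.val_one]⟩
    have h := genOK_eq
    simp only [genOK, Bool.and_eq_true, Bool.or_eq_true, List.all_eq_true,
      List.mem_range, beq_iff_eq, decide_eq_true_eq] at h
    rcases h.1.2 k hk with h' | ⟨⟨hp, hg⟩, he⟩
    · omega
    obtain ⟨x, hx, hxv⟩ := ih _ hp (hp.trans hk)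
    obtain ⟨h1, -⟩ := h.1.1.2 _ hg
    refine ⟨x * bgu _, mul_mem hx (bgu_props hg).2.1, ?_⟩
    rw [Units.val_mul, hxv, (bgu_props hg).2.2,
      ← toM_mcomp _ ((mg_props h1).2 mone isCode_mone).1, he]

theorem pCode_mem {k b : ℕ} (hk : k < 128) (hb : b < 128) : ∃ x ∈ SS,
    ((x : GG) : Matrix (Fin 8) (Fin 8) (ZMod 3)) = toM (mrows (pCode k b)) := by
  obtain ⟨x, hx, hxv⟩ := sign_mem b hb
  obtain ⟨y, hy, hyv⟩ := perm_mem k hk
  exact ⟨x * y, mul_mem hx hy, by rw [Units.val_mul, hxv, hyv, toM_pCode hk]⟩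

theorem pCode_inj {k b k' b' : ℕ} (hk : k < 128) (hb : b < 128) (hk' : k' < 128) (hb' : b' < 128)
    (h : toM (mrows (pCode k b)) = toM (mrows (pCode k' b'))) : k = k' ∧ b = b' := by
  have hS := shapeOK_eq
  simp only [shapeOK, Bool.and_eq_true, beq_iff_eq, List.all_eq_true, List.mem_range,
    decide_eq_true_eq] at hS
  obtain ⟨⟨⟨⟨⟨⟨hsgn, heven⟩, hnd⟩, hnd'⟩, hlen⟩, -⟩, -⟩ := hS
  have hp := code_ext (pCode_code hk hb) (pCode_code hk' hb') h
  have hkk : k = k' := by
    have e : blockPerms.getD k [] = blockPerms.getD k' [] := by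
      have l1 := (isCode_iff.1 (perm_code hk)).1
      have l2 := (isCode_iff.1 (perm_code hk')).1
      refine List.ext_getElem (by rw [l1, l2]) fun j hj hj' => ?_
      have e1 := mcomp_getD (signCode b) (q := blockPerms.getD k []) hj
      have e2 := mcomp_getD (signCode b') (q := blockPerms.getD k' []) hj'
      rw [show mcomp (signCode b) (blockPerms.getD k []) = pCode k b from rfl, hp] at e1
      rw [show mcomp (signCode b') (blockPerms.getD k' []) = pCode k' b' from rfl, e1] at e2
      rw [hsgn b hb _ (by have := code_getD (perm_code hk) j; omega),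
        hsgn b' hb' _ (by have := code_getD (perm_code hk') j; omega)] at e2
      have a1 := heven k hk _ (List.getElem_mem hj)
      have a2 := heven k' hk' _ (List.getElem_mem hj')
      rw [List.getD_eq_getElem _ _ hj, List.getD_eq_getElem _ _ hj'] at e2
      omega
    rw [List.getD_eq_getElem _ _ (by omega), List.getD_eq_getElem _ _ (by omega)] at e
    exact hnd.getElem_inj_iff.1 e
  subst hkk
  refine ⟨rfl, ?_⟩
  obtain ⟨y, -, hyv⟩ := perm_mem k hk
  rw [toM_pCode hk, toM_pCode hk, ← hyv] at h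
  have h' := congrArg (fun M => M * ((y⁻¹ : GG) : Matrix (Fin 8) (Fin 8) (ZMod 3))) h
  simp only [mul_assoc, Units.mul_inv, mul_one] at h'
  have hc := code_ext (sign_code hb).1 (sign_code hb').1 h'
  exact (List.nodup_iff_injective_get.1 hnd' (a₁ := ⟨b, by simpa using hb⟩)
    (a₂ := ⟨b', by simpa using hb'⟩) (by simpa using hc)) |> fun e => congrArg Fin.val e

theorem SS_card : 2 ^ 14 ≤ Nat.card SS := by
  choose f hf hfv using fun p : Fin 128 × Fin 128 => pCode_mem p.1.isLt p.2.isLt
  have hinj : Function.Injective fun p => (⟨f p, hf p⟩ : SS) := fun p q h => by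
    have e := congrArg (fun x : SS => ((x : GG) : Matrix (Fin 8) (Fin 8) (ZMod 3))) h
    simp only [hfv] at e
    obtain ⟨h1, h2⟩ := pCode_inj p.1.isLt p.2.isLt q.1.isLt q.2.isLt e
    exact Prod.ext (Fin.ext h1) (Fin.ext h2)
  have := Nat.card_le_card_of_injective _ hinj
  simpa using this

theorem SS_card_le : Nat.card SS ≤ 2 ^ 14 := by
  choose k b hk hb hv using fun x : SS => SS_list x.2
  have hinj : Function.Injective fun x => ((⟨k x, hk x⟩, ⟨b x, hb x⟩) : Fin 128 × Fin 128) := by
    intro x y h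
    simp only [Prod.mk.injEq, Fin.mk.injEq] at h
    exact Subtype.ext (Units.ext (by rw [hv x, hv y, h.1, h.2]))
  have := Nat.card_le_card_of_injective _ hinj
  simpa using this

/-- An element with square plus or minus one is conjugate into the Sylow subgroup. -/
theorem exists_conj_SS {x : GG} (hx : x ∈ WW) (h : x * x = 1 ∨ x * x = zM) :
    ∃ w ∈ WW, w * x * w⁻¹ ∈ SS := by
  classical
  let H := WW
  haveI : Fact (Nat.Prime 2) := ⟨Nat.prime_two⟩
  let P : Subgroup H := SS.subgroupOf WW
  have hP : Nat.card P = 2 ^ 14 := by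
    rw [Nat.card_congr (Subgroup.subgroupOfEquivOfLe SS_le).toEquiv]
    exact le_antisymm SS_card_le SS_card
  obtain ⟨Q, hQ⟩ := (IsPGroup.of_card hP).exists_le_sylow
  obtain ⟨n, hn⟩ := IsPGroup.iff_card.1 Q.2
  have hn14 : n ≤ 14 := by
    by_contra hc
    refine not_dvd_card_WW ((pow_dvd_pow 2 (by omega : 15 ≤ n)).trans ?_)
    rw [← hn]
    exact Subgroup.card_subgroup_dvd_card _
  have hPQ : P = (Q : Subgroup H) := Subgroup.eq_of_le_of_card_ge hQ (by
    rw [hP, hn]; exact pow_le_pow_right₀ (by norm_num) hn14)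
  let y : H := ⟨x, hx⟩
  have hy : y ^ (2 ^ 2) = 1 := Subtype.ext (by
    show x ^ (2 ^ 2) = 1
    rw [show (2 : ℕ) ^ 2 = 2 * 2 by norm_num, pow_mul, pow_two x]
    rcases h with h | h <;> rw [h, pow_two]
    · exact one_mul _
    · exact zM_sq)
  have hY : IsPGroup 2 (zpowers y) := by
    obtain ⟨m, -, hm⟩ := (Nat.dvd_prime_pow Nat.prime_two).1 (orderOf_dvd_of_pow_eq_one hy)
    exact IsPGroup.of_card (by rw [Nat.card_zpowers, hm])
  obtain ⟨Q', hQ'⟩ := hY.exists_le_sylow
  obtain ⟨g, hg⟩ := MulAction.exists_smul_eq H Q' Q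
  refine ⟨g, g.2, ?_⟩
  have hmem : g * y * g⁻¹ ∈ (Q : Subgroup H) := by
    rw [← hg, Sylow.coe_subgroup_smul]
    exact Subgroup.mem_map_of_mem _ (hQ' (mem_zpowers y))
  rw [← hPQ] at hmem
  exact hmem

/-- A representative. -/
def repGG (r : ℕ) : GG := mg (repWords.getD r [])

theorem repGG_props {r : ℕ} (hr : r < 11) : repGG r ∈ WW ∧
    ((repGG r : GG) : Matrix (Fin 8) (Fin 8) (ZMod 3)) = toM (mrows (classReps.getD r [])) := by
  have h := repOK_eq
  simp only [repOK, Bool.and_eq_true, List.all_eq_true, List.mem_range, beq_iff_eq,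
    decide_eq_true_eq] at h
  obtain ⟨h1, h2⟩ := h r hr
  exact ⟨(mg_props h1).1, by rw [repGG, mg_val h1, h2]⟩

theorem conjWord_props : ∀ {w : List ℕ}, (∀ t ∈ w, t < 56) → ∀ {y : GG} {p : List ℕ},
    isCode p = true → (y : Matrix (Fin 8) (Fin 8) (ZMod 3)) = toM (mrows p) →
    ∃ g ∈ WW, isCode (conjWord w p) = true ∧
      ((g * y * g⁻¹ : GG) : Matrix (Fin 8) (Fin 8) (ZMod 3)) = toM (mrows (conjWord w p)) := by
  intro w
  induction w with
  | nil => intro _ y p hp hy; exact ⟨1, one_mem _, hp, by simpa [conjWord] using hy⟩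
  | cons t w ih =>
    intro hw y p hp hy
    obtain ⟨h1, h2, h3⟩ := cg_props (hw t List.mem_cons_self)
    have hy' : ((cg t * y * cg t : GG) : Matrix (Fin 8) (Fin 8) (ZMod 3)) =
        toM (mrows (mcomp (mcomp (cCode t) p) (cCode t))) := by
      rw [Units.val_mul, Units.val_mul, h3, hy, toM_mcomp _ h2, toM_mcomp _ hp]
    obtain ⟨g, hg, hc, hgv⟩ := ih (fun u hu => hw u (List.mem_cons_of_mem _ hu))
      (isCode_mcomp (isCode_mcomp h2 hp) h2) hy'
    refine ⟨g * cg t, mul_mem hg (rg_mem h1), hc, ?_⟩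
    rw [show g * cg t * y * (g * cg t)⁻¹ = g * (cg t * y * cg t) * g⁻¹ by
      rw [mul_inv_rev, cg, rg_inv h1]; simp only [mul_assoc]]
    exact hgv

theorem linkWord_props : ∀ {w : List (List ℕ)}, (∀ a ∈ w, isRt a = true) → ∀ {y : GG}
    {X : List (List ℕ)}, (y : Matrix (Fin 8) (Fin 8) (ZMod 3)) = toM X →
    ∃ g ∈ WW, ((g * y * g⁻¹ : GG) : Matrix (Fin 8) (Fin 8) (ZMod 3)) =
      toM (w.foldl (fun X a => rmul (rmul (rrefl a) X) (rrefl a)) X) := by
  intro w
  induction w with
  | nil => intro _ y X hy; exact ⟨1, one_mem _, by simpa using hy⟩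
  | cons a w ih =>
    intro hw y X hy
    have h1 := hw a List.mem_cons_self
    obtain ⟨g, hg, hgv⟩ := ih (fun u hu => hw u (List.mem_cons_of_mem _ hu))
      (gmul_val (gmul_val (rg_val h1) hy) (rg_val h1))
    refine ⟨g * rg a, mul_mem hg (rg_mem h1), ?_⟩
    rw [show g * rg a * y * (g * rg a)⁻¹ = g * (rg a * y * rg a) * g⁻¹ by
      rw [mul_inv_rev, rg_inv h1]; simp only [mul_assoc]]
    exact hgv

/-- Every element with square plus or minus one is conjugate to a representative. -/
theorem classify {x : GG} (hx : x ∈ WW) (h : x * x = 1 ∨ x * x = zM) :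
    ∃ w ∈ WW, ∃ r < 11, w * x * w⁻¹ = repGG r := by
  obtain ⟨w, hw, hs⟩ := exists_conj_SS hx h
  obtain ⟨k, b, hk, hb, hv⟩ := SS_list hs
  set y := w * x * w⁻¹ with hy
  have hsq : y * y = 1 ∨ y * y = zM := by
    have e : y * y = w * (x * x) * w⁻¹ := by rw [hy]; group
    rcases h with h | h
    · exact Or.inl (by rw [e, h, mul_one, mul_inv_cancel])
    · refine Or.inr ?_
      rw [e, h, mul_assoc, zM_comm, ← mul_assoc, mul_inv_cancel, one_mul]
  have hp := pCode_code hk hb
  have hcond : mcomp (pCode k b) (pCode k b) = mone ∨ mcomp (pCode k b) (pCode k b) = mneg := by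
    have hvv : ((y * y : GG) : Matrix (Fin 8) (Fin 8) (ZMod 3)) =
        toM (mrows (mcomp (pCode k b) (pCode k b))) := by
      rw [Units.val_mul, hv, toM_mcomp _ hp]
    rcases hsq with e | e <;> rw [e] at hvv
    · exact Or.inl (code_ext (isCode_mcomp hp hp) isCode_mone
        (hvv.symm.trans (by rw [toM_mone, Units.val_one])))
    · exact Or.inr (code_ext (isCode_mcomp hp hp) (by decide +kernel)
        (hvv.symm.trans (zM_val.trans (by decide +kernel))))
  have hinvk : invPerm k = true := by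
    have hS := shapeOK_eq
    simp only [shapeOK, Bool.and_eq_true, beq_iff_eq, List.all_eq_true, List.mem_range,
      decide_eq_true_eq] at hS
    obtain ⟨⟨⟨⟨⟨⟨hsgn, -⟩, -⟩, -⟩, -⟩, -⟩, -⟩ := hS
    have hlen := (isCode_iff.1 (perm_code hk)).1
    have hp2 : ∀ j < 8, (pCode k b).getD j 0 / 2 = (blockPerms.getD k []).getD j 0 / 2 := by
      intro j hj
      have := code_getD (perm_code hk) j
      rw [pCode, mcomp_getD _ (by omega), show ∀ a c : ℕ, (a * 2 + c % 2) / 2 = a by omega,
        hsgn b hb _ (by omega)]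
    simp only [invPerm, List.all_eq_true, List.mem_range, beq_iff_eq]
    intro j hj
    have hlt : (blockPerms.getD k []).getD j 0 / 2 < 8 := by
      have := code_getD (perm_code hk) j; omega
    have e : (mcomp (pCode k b) (pCode k b)).getD j 0 / 2 = j := by
      rcases hcond with e | e <;> rw [e] <;> interval_cases j <;> rfl
    rw [mcomp_getD _ (by rw [(isCode_iff.1 hp).1]; exact hj),
      show ∀ a c : ℕ, (a * 2 + c % 2) / 2 = a by omega, hp2 j hj, hp2 _ hlt] at e
    exact e
  have hC := rowCert hk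
  simp only [rowCertOK, hinvk, Bool.not_true, Bool.false_or, List.all_eq_true, List.mem_range] at hC
  have hc := hC b hb
  simp only [certOK] at hc
  rw [if_pos (by simpa [Bool.or_eq_true, beq_iff_eq] using hcond)] at hc
  simp only [Bool.and_eq_true, List.all_eq_true, decide_eq_true_eq, beq_iff_eq] at hc
  obtain ⟨⟨hw8, he⟩, hi⟩ := hc
  obtain ⟨g, hg, -, hgv⟩ := conjWord_props hw8 hp hv
  rw [he] at hgv
  have hL := linkOK_eq
  simp only [linkOK, List.all_eq_true, List.mem_range] at hL
  have hl := hL _ hi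
  simp only [Bool.and_eq_true, List.all_eq_true, decide_eq_true_eq, beq_iff_eq] at hl
  obtain ⟨⟨⟨⟨hrt, hr⟩, -⟩, -⟩, hm⟩ := hl
  obtain ⟨g', hg', hgv'⟩ :=
    linkWord_props (fun a ha => hrt a (List.mem_reverse.1 ha)) hgv
  rw [hm] at hgv'
  refine ⟨g' * g * w, mul_mem (mul_mem hg' hg) hw, _, hr, ?_⟩
  rw [show g' * g * w * x * (g' * g * w)⁻¹ = g' * (g * y * g⁻¹) * g'⁻¹ by rw [hy]; group]
  exact Units.ext (hgv'.trans (repGG_props hr).2.symm)

end H48.O8Std
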