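import Cfsg.Agent.H48.O8Std.Class
import Cfsg.Agent.H20.O8Cover.Iso

/-!
The facts on the classes of the involutions and of the square roots of minus one in the double
cover of the orthogonal group of plus type in dimension eight over two elements.
-/

set_option autoImplicit false
set_option maxRecDepth 100000

namespace H48.O8Std

open Subgroup H6.O8
open H76.Exc (toM rmul rsc toM_rmul toM_one toM_two)

theorem mono_val {p s : List ℕ}
    (h : rmul (H6.O8.mrows p s) (rtr (H6.O8.mrows p s)) = rsc 1 ∧
      rmul (rtr (H6.O8.mrows p s)) (H6.O8.mrows p s) = rsc 1) :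
    ((mono p s : GG) : Matrix (Fin 8) (Fin 8) (ZMod 3)) = toM (H6.O8.mrows p s) := by
  rw [mono, glOf_val h]

theorem rep_one : repGG 0 = 1 := rfl

theorem rep_z : repGG 1 = zM := gg_ext (repGG_props (by norm_num)).2 (zM_val.trans (by decide +kernel))

theorem rep_A : repGG 2 = rA :=
  gg_ext (repGG_props (by norm_num)).2 ((mono_val (by decide +kernel)).trans (by decide +kernel))

theorem rep_B : repGG 3 = rB :=
  gg_ext (repGG_props (by norm_num)).2
    ((gmul_val zM_val (mono_val (by decide +kernel))).trans (by decide +kernel))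

theorem rep_D : repGG 4 = rD :=
  gg_ext (repGG_props (by norm_num)).2 ((mono_val (by decide +kernel)).trans (by decide +kernel))

theorem rep_F : repGG 5 = rF :=
  gg_ext (repGG_props (by norm_num)).2
    ((gmul_val (gmul_val (gmul_val (mono_val (by decide +kernel)) (mono_val (by decide +kernel)))
      (mono_val (by decide +kernel))) (mono_val (by decide +kernel))).trans (by decide +kernel))

theorem rep_R : repGG 6 = rR :=
  gg_ext (repGG_props (by norm_num)).2 ((mono_val (by decide +kernel)).trans (by decide +kernel))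

theorem rep_zR : repGG 7 = zM * rR :=
  gg_ext (repGG_props (by norm_num)).2
    ((gmul_val zM_val (mono_val (by decide +kernel))).trans (by decide +kernel))

theorem rep_P : repGG 8 = rP :=
  gg_ext (repGG_props (by norm_num)).2
    ((gmul_val (gmul_val (mono_val (by decide +kernel)) (mono_val (by decide +kernel)))
      (mono_val (by decide +kernel))).trans (by decide +kernel))

theorem rep_zP : repGG 9 = zM * rP :=
  gg_ext (repGG_props (by norm_num)).2 ((gmul_val zM_val
    (gmul_val (gmul_val (mono_val (by decide +kernel)) (mono_val (by decide +kernel)))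
      (mono_val (by decide +kernel)))).trans (by decide +kernel))

theorem rep_T : repGG 10 = rT :=
  gg_ext (repGG_props (by norm_num)).2 ((mono_val (by decide +kernel)).trans (by decide +kernel))

/-- A coordinate reflection is outer. -/
theorem cg_out {t : ℕ} (ht : t < 56) : cg t ∈ WW ∧ cg t ∉ MM := by
  obtain ⟨h1, -, -⟩ := cg_props ht
  refine ⟨rg_mem h1, fun h => ?_⟩
  obtain ⟨m, hm, e⟩ := exists_conj h1
  obtain ⟨m', hm', e'⟩ := exists_conj r0_rt
  refine rR_not_mem ?_
  have hg : g0 = m⁻¹ * cg t * m := by rw [cg, ← e]; group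
  rw [rR_eq, ← e', hg]
  exact mul_mem (mul_mem hm' (mul_mem (mul_mem (inv_mem hm) h) hm)) (inv_mem hm')

theorem out_mul {g h : GG} (hg : g ∈ WW) (hg' : g ∉ MM) (hh : h ∈ WW) (hh' : h ∉ MM) :
    g * h ∈ MM := by
  have a := (mem_WW_iff.1 hg).resolve_left hg'
  have b := (mem_WW_iff.1 hh).resolve_left hh'
  have := mul_mem a (rR_conj_mem b)
  rwa [show g * rR * (rR * (h * rR) * rR) = g * (rR * rR) * h * (rR * rR) by group, rR_sq, mul_one,
    mul_one] at this

theorem out_mul_in {g h : GG} (hg' : g ∉ MM) (hh : h ∈ MM) : g * h ∉ MM := fun e =>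
  hg' (by simpa [mul_assoc] using mul_mem e (inv_mem hh))

theorem mg_parity : ∀ {w : List ℕ}, (∀ t ∈ w, t < 56) → (mg w ∈ MM ↔ Even w.length) := by
  intro w
  induction w with
  | nil => intro _; exact ⟨fun _ => Even.zero, fun _ => one_mem _⟩
  | cons t w ih =>
    intro hw
    obtain ⟨h1, h2⟩ := cg_out (hw t List.mem_cons_self)
    have hw' : ∀ u ∈ w, u < 56 := fun u hu => hw u (List.mem_cons_of_mem _ hu)
    rw [List.length_cons, Nat.even_add_one, ← ih hw', mg, List.map_cons, List.prod_cons]
    by_cases hm : mg w ∈ MM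
    · exact ⟨fun h => absurd h (out_mul_in h2 hm), fun h => absurd hm h⟩
    · exact ⟨fun _ => hm, fun _ => out_mul h1 h2 (mg_props hw').1 hm⟩

/-- The first six representatives and the last lie in the cover, the others outside. -/
theorem repGG_mem {r : ℕ} (hr : r < 11) : repGG r ∈ MM ↔ r < 6 ∨ r = 10 := by
  have h := repOK_eq
  simp only [repOK, Bool.and_eq_true, List.all_eq_true, List.mem_range, beq_iff_eq,
    decide_eq_true_eq] at h
  rw [repGG, mg_parity (h r hr).1]
  interval_cases r <;> decide

/-- Each representative other than the square roots of minus one commutes with an outer element. -/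
theorem rep_comm {r : ℕ} (hr : r < 10) : ∃ s ∈ WW, s ∉ MM ∧ s * repGG r = repGG r * s := by
  have h : ∀ r < 10, ∃ t ∈ ([0, 26] : List ℕ),
      mcomp (cCode t) (classReps.getD r []) = mcomp (classReps.getD r []) (cCode t) ∧
        isCode (classReps.getD r []) = true := by decide +kernel
  obtain ⟨t, ht, he, hc⟩ := h r hr
  have ht' : t < 56 := by fin_cases ht <;> norm_num
  obtain ⟨-, h2, h3⟩ := cg_props ht'
  refine ⟨cg t, (cg_out ht').1, (cg_out ht').2, Units.ext ?_⟩
  rw [Units.val_mul, Units.val_mul, h3, (repGG_props (by omega)).2, ← toM_mcomp _ hc,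
    ← toM_mcomp _ h2, he]

theorem mconj_of_conj {a : GG} {r : ℕ} (hr : r < 10) {w : GG} (hw : w ∈ WW)
    (h : w * a * w⁻¹ = repGG r) : MConj a (repGG r) := by
  by_cases hm : w ∈ MM
  · exact ⟨w, hm, h⟩
  obtain ⟨s, hs, hs', hc⟩ := rep_comm hr
  refine ⟨s * w, out_mul hs hs' hw hm, ?_⟩
  rw [show s * w * a * (s * w)⁻¹ = s * (w * a * w⁻¹) * s⁻¹ by group, h, hc, mul_inv_cancel_right]

theorem rR_conj_zM {w a : GG} (h : w * a * w⁻¹ = zM) : a = zM := by
  rw [show a = w⁻¹ * (w * a * w⁻¹) * w by group, h, mul_assoc, zM_comm, inv_mul_cancel_left]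

theorem rT_sq : rT * rT = (zM : GG) := by
  rw [← rep_T]
  exact Units.ext (by
    rw [Units.val_mul, (repGG_props (by norm_num)).2, ← toM_mcomp _ (by decide +kernel), zM_val]
    decide +kernel)

theorem classFacts : ClassFacts where
  z_mem := zM_mem
  center := H20.O8Cover.center_pm
  normal := fun _ hw _ hx => WW_conj hw hx
  outer_not_mem := rR_not_mem
  inner_two := fun a ha h => by
    obtain ⟨w, hw, r, hr, e⟩ := classify (MM_le ha) (Or.inl h)
    have hin := (repGG_mem hr).1 (e ▸ WW_conj hw ha)
    rcases hin with hin | rfl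
    · have hM := mconj_of_conj (a := a) (by omega) hw e
      interval_cases r
      · left
        rw [rep_one] at e
        rw [show a = w⁻¹ * (w * a * w⁻¹) * w by group, e, mul_one, inv_mul_cancel]
      · right; left; rw [rep_z] at e; exact rR_conj_zM e
      · exact Or.inr (Or.inr (Or.inl (rep_A ▸ hM)))
      · exact Or.inr (Or.inr (Or.inr (Or.inl (rep_B ▸ hM))))
      · exact Or.inr (Or.inr (Or.inr (Or.inr (Or.inl (rep_D ▸ hM)))))
      · exact Or.inr (Or.inr (Or.inr (Or.inr (Or.inr (rep_F ▸ hM)))))
    · exfalso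
      rw [rep_T] at e
      have hz : w * (a * a) * w⁻¹ = zM := by
        rw [show w * (a * a) * w⁻¹ = (w * a * w⁻¹) * (w * a * w⁻¹) by group, e, rT_sq]
      rw [h, mul_one, mul_inv_cancel] at hz
      exact absurd (congrArg (fun g : GG => (g : Matrix (Fin 8) (Fin 8) (ZMod 3))) hz)
        (by simp only [Units.val_one, zM, Units.val_neg]; decide)
  inner_four := fun a ha h => by
    obtain ⟨w, hw, r, hr, e⟩ := classify (MM_le ha) (Or.inr h)
    have hz : repGG r * repGG r = zM := by
      rw [← e, show (w * a * w⁻¹) * (w * a * w⁻¹) = w * (a * a) * w⁻¹ by group, h, mul_assoc,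
        zM_comm, ← mul_assoc, mul_inv_cancel, one_mul]
    have hne : ∀ r < 11, mcomp (classReps.getD r []) (classReps.getD r []) = mneg → r = 10 := by
      decide +kernel
    have hc : isCode (classReps.getD r []) = true := by interval_cases r <;> decide +kernel
    have he := code_ext (isCode_mcomp hc hc) (by decide +kernel) (show
      toM (mrows (mcomp (classReps.getD r []) (classReps.getD r []))) = toM (mrows mneg) by
      rw [toM_mcomp _ hc, ← (repGG_props hr).2, ← Units.val_mul, hz, zM_val]; decide +kernel)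
    obtain rfl := hne r hr he
    exact ⟨w, hw, e.trans rep_T⟩
  outer := fun a ha ha' h => by
    obtain ⟨w, hw, r, hr, e⟩ := classify ha h
    have hnot : repGG r ∉ MM := fun hm => ha' (by
      have := WW_conj (inv_mem hw) (e ▸ hm : w * a * w⁻¹ ∈ MM)
      rwa [show w⁻¹ * (w * a * w⁻¹) * w⁻¹⁻¹ = a by group] at this)
    rw [repGG_mem hr] at hnot
    have hr' : r < 10 := by omega
    have hM := mconj_of_conj (a := a) hr' hw e
    interval_cases r <;> first
      | omega
      | (rw [rep_R] at hM; exact Or.inl hM)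
      | (rw [rep_zR] at hM; exact Or.inr (Or.inl hM))
      | (rw [rep_P] at hM; exact Or.inr (Or.inr (Or.inl hM)))
      | (rw [rep_zP] at hM; exact Or.inr (Or.inr (Or.inr hM)))

end H48.O8Std
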