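import Cfsg.Agent.H48.O8Std.Act

/-!
Tables and checks for the group of two-elements attached to the involution of type D₄.
-/

set_option autoImplicit false
set_option maxRecDepth 100000

namespace H48.O8Std

open H20.O8Cover (rvv root rvec rsmul rdot vec)

/-- A vector of one half. -/
def padV (h : ℕ) (v : List ℕ) : List ℕ :=
  if h = 0 then v ++ [0, 0, 0, 0] else [0, 0, 0, 0] ++ v

/-- The four sets of vectors: half and norm. -/
def tVecs (t : Fin 4) : List (List ℕ) :=
  ((allVecs 4).map (padV (t.val / 2))).filter fun v => rdot v v == t.val % 2 + 1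

/-- Representatives of the three classes in each set. -/
def tRep (t : Fin 4) (c : Fin 3) : List ℕ :=
  padV (t.val / 2) ((if t.val % 2 = 0 then [[1, 0, 0, 0], [1, 1, 1, 1], [2, 1, 1, 1]]
    else [[1, 1, 0, 0], [1, 0, 1, 0], [1, 0, 0, 1]]).getD c.val [])

/-- Orthogonal or equal up to sign. -/
def vRel (u v : List ℕ) : Bool := (rdot u v == 0) || (u == v) || (u == rsmul 2 v)

/-- The class of a vector. -/
def tCls (t : Fin 4) (v : List ℕ) : Fin 3 :=
  if vRel v (tRep t 0) then 0 else if vRel v (tRep t 1) then 1 else 2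

/-- The code of a signed unit vector. -/
def unitV (c : ℕ) : List ℕ :=
  List.ofFn fun i : Fin 8 => if c / 2 = i.val then 1 + c % 2 else 0

/-- Properties of the classes. -/
def clsOK : Bool :=
  ((List.finRange 4).all fun t =>
    ((tVecs t).all fun u => vRel u (tRep t (tCls t u)) && (u.length == 8) &&
      (u.all fun c => decide (c < 3)) &&
      (tVecs t).all fun v => vRel u v == (tCls t u == tCls t v)) &&
    ((List.finRange 3).all fun c =>
      (tCls t (tRep t c) == c) && decide (tRep t c ∈ tVecs t))) &&
  ((List.range 8).all fun j =>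
    let t : Fin 4 := if j < 4 then 0 else 2
    decide (unitV (2 * j) ∈ tVecs t) && (tCls t (unitV (2 * j)) == 0) &&
      (tVecs t).all fun v => (tCls t v != 0) ||
        (List.range 8).any fun c => v == unitV ((if j < 4 then 0 else 8) + c))

theorem clsOK_eq : clsOK = true := by decide +kernel

/-- The vectors of each half, by shape. -/
def padOK : Bool :=
  (allVecs 8).all fun v =>
    (!(v.drop 4 == [0, 0, 0, 0]) || decide (v.take 4 ∈ allVecs 4)) &&
    (!(v.take 4 == [0, 0, 0, 0]) || decide (v.drop 4 ∈ allVecs 4))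

theorem padOK_eq : padOK = true := by decide +kernel

/-- Generators of the group of two-elements, half by half, each with its witnesses. -/
def dGens (h : ℕ) : List (List ℕ × List (List ℕ)) :=
  if h = 0 then [([1, 3, 4, 6, 8, 10, 12, 14], [[0, 2], [1, 15]]),
    ([0, 3, 5, 6, 8, 10, 12, 14], [[0, 2], [0, 15]]),
    ([0, 2, 5, 7, 8, 10, 12, 14], [[2, 4], [2, 27]]),
    ([2, 0, 6, 4, 8, 10, 12, 14], [[0, 2], [2, 26]]),
    ([4, 6, 0, 2, 8, 10, 12, 14], [[0, 2], [14, 16]])]
  else [([0, 2, 4, 6, 9, 11, 12, 14], [[44, 46], [45, 51]]),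
    ([0, 2, 4, 6, 8, 11, 13, 14], [[44, 46], [44, 51]]),
    ([0, 2, 4, 6, 8, 10, 13, 15], [[46, 48], [46, 55]]),
    ([0, 2, 4, 6, 10, 8, 14, 12], [[44, 46], [46, 54]]),
    ([0, 2, 4, 6, 12, 14, 8, 10], [[44, 46], [50, 52]])]

/-- All products of the generators, in order. -/
def expand (gs : List (List ℕ)) : List (List ℕ) :=
  gs.foldl (fun L g => L ++ L.map fun p => mcomp p g) [mone]

/-- The two halves. -/
def dHalf (h : ℕ) : List (List ℕ) := expand ((dGens h).map Prod.fst)

/-- The group of 1024 signed permutations. -/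
def qdList : List (List ℕ) := (dHalf 0).flatMap fun a => (dHalf 1).map (mcomp a)

/-- A code as a number. -/
def encC (p : List ℕ) : ℕ := p.foldl (fun n c => n * 16 + c) 0

/-- The image of a vector of a half under four images of unit vectors. -/
def halfImg (o : ℕ) (cs v : List ℕ) : List ℕ :=
  List.ofFn fun i : Fin 8 => ((List.range 4).map fun k =>
    v.getD (o + k) 0 * (unitV (cs.getD k 0)).getD i.val 0).sum % 3

/-- The criterion in one half, with the first image given. -/
def halfOK (h i : ℕ) : Bool :=
  let o := 4 * h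
  let cand := (List.range 8).map (2 * o + ·)
  let a := 2 * o + i
  let t1 : Fin 4 := if h = 0 then 0 else 2
  let t2 : Fin 4 := if h = 0 then 1 else 3
  let H := dHalf h
  cand.all fun b => (a / 2 == b / 2) || cand.all fun c =>
    (a / 2 == c / 2 || b / 2 == c / 2) || cand.all fun d =>
      (a / 2 == d / 2 || b / 2 == d / 2 || c / 2 == d / 2) ||
      !((tCls t1 (halfImg o [a, b, c, d] (tRep t1 1)) == 1) &&
        (tCls t2 (halfImg o [a, b, c, d] (tRep t2 0)) == 0) &&
        (tCls t2 (halfImg o [a, b, c, d] (tRep t2 1)) == 1)) ||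
      decide ((if h = 0 then [a, b, c, d] ++ [8, 10, 12, 14] else [0, 2, 4, 6] ++ [a, b, c, d]) ∈ H)

/-- The halves fit together, an eighth at a time. -/
def fitOK (c : ℕ) : Bool :=
  (List.range 4).all fun i =>
    let a := (dHalf 0).getD (4 * c + i) []
    (dHalf 1).all fun b =>
      let p := mcomp a b
      let q := mcomp p p
      (p == a.take 4 ++ b.drop 4) && (mcomp q q == mone)

/-- The halves. -/
def halvesOK : Bool :=
  ([0, 1].all fun h => (dHalf h).all isCode) &&
  ((dHalf 0).length == 32) && ((dHalf 1).length == 32) &&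
  decide ((dHalf 0).map (List.take 4)).Nodup && decide ((dHalf 1).map (List.drop 4)).Nodup &&
  ([0, 1].all fun h => (dGens h).all fun g => witsOK [1, 3, 5, 7, 8, 10, 12, 14] g.2 g.1)

theorem halfOK00 : halfOK 0 0 = true := by decide +kernel
theorem halfOK01 : halfOK 0 1 = true := by decide +kernel
theorem halfOK02 : halfOK 0 2 = true := by decide +kernel
theorem halfOK03 : halfOK 0 3 = true := by decide +kernel
theorem halfOK04 : halfOK 0 4 = true := by decide +kernel
theorem halfOK05 : halfOK 0 5 = true := by decide +kernel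
theorem halfOK06 : halfOK 0 6 = true := by decide +kernel
theorem halfOK07 : halfOK 0 7 = true := by decide +kernel
theorem halfOK10 : halfOK 1 0 = true := by decide +kernel
theorem halfOK11 : halfOK 1 1 = true := by decide +kernel
theorem halfOK12 : halfOK 1 2 = true := by decide +kernel
theorem halfOK13 : halfOK 1 3 = true := by decide +kernel
theorem halfOK14 : halfOK 1 4 = true := by decide +kernel
theorem halfOK15 : halfOK 1 5 = true := by decide +kernel
theorem halfOK16 : halfOK 1 6 = true := by decide +kernel
theorem halfOK17 : halfOK 1 7 = true := by decide +kernel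

theorem halfOK_eq {h i : ℕ} (hh : h < 2) (hi : i < 8) : halfOK h i = true := by
  interval_cases h <;> interval_cases i
  exacts [halfOK00, halfOK01, halfOK02, halfOK03, halfOK04, halfOK05, halfOK06, halfOK07,
    halfOK10, halfOK11, halfOK12, halfOK13, halfOK14, halfOK15, halfOK16, halfOK17]

theorem fitOK0 : fitOK 0 = true := by decide +kernel
theorem fitOK1 : fitOK 1 = true := by decide +kernel
theorem fitOK2 : fitOK 2 = true := by decide +kernel
theorem fitOK3 : fitOK 3 = true := by decide +kernel
theorem fitOK4 : fitOK 4 = true := by decide +kernel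
theorem fitOK5 : fitOK 5 = true := by decide +kernel
theorem fitOK6 : fitOK 6 = true := by decide +kernel
theorem fitOK7 : fitOK 7 = true := by decide +kernel

theorem halvesOK_eq : halvesOK = true := by decide +kernel

theorem qd_fit {a b : List ℕ} (ha : a ∈ dHalf 0) (hb : b ∈ dHalf 1) :
    mcomp a b = a.take 4 ++ b.drop 4 ∧ mcomp (mcomp (mcomp a b) (mcomp a b))
      (mcomp (mcomp a b) (mcomp a b)) = mone := by
  obtain ⟨n, hn, rfl⟩ := List.getElem_of_mem ha
  have hl := halvesOK_eq
  simp only [halvesOK, Bool.and_eq_true, beq_iff_eq] at hl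
  have hn' : n < 32 := by rw [← hl.1.1.1.1.2]; exact hn
  have hf : fitOK (n / 4) = true := by
    have hh : ∀ c < 8, fitOK c = true := by
      intro c hc
      interval_cases c
      exacts [fitOK0, fitOK1, fitOK2, fitOK3, fitOK4, fitOK5, fitOK6, fitOK7]
    exact hh _ (by omega)
  simp only [fitOK, List.all_eq_true, List.mem_range, Bool.and_eq_true, beq_iff_eq] at hf
  have h := hf (n % 4) (Nat.mod_lt _ (by norm_num)) b hb
  rw [Nat.div_add_mod, List.getD_eq_getElem _ _ hn] at h
  exact h

end H48.O8Std
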