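import Cfsg.Agent.H48.O8Std.DCheck
import Mathlib.GroupTheory.Perm.Cycle.Type

/-!
The two-elements generated by the elements of odd order of the centralizer of the involution of
type D₄: an explicit group of 1024 signed permutations.
-/

set_option autoImplicit false
set_option maxRecDepth 100000

namespace H48.O8Std

open Subgroup H6.O8
open H76.Exc (toM rmul rsc toM_rmul toM_one toM_two)
open H20.O8Cover (rvv root rvec rsmul rdot vec vec_rvec vec_rsmul dot_vec)

theorem rD_val : ((rD : GG) : Matrix (Fin 8) (Fin 8) (ZMod 3)) =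
    toM (mrows [1, 3, 5, 7, 8, 10, 12, 14]) :=
  rep_D ▸ (repGG_props (r := 4) (by norm_num)).2.trans (by decide +kernel)

theorem rD_apply (u : Fin 8 → ZMod 3) (i : Fin 8) :
    ((rD : GG) : Matrix (Fin 8) (Fin 8) (ZMod 3)).mulVec u i =
      (if i.val < 4 then -1 else 1) * u i := by
  rw [rD_val, show toM (mrows [1, 3, 5, 7, 8, 10, 12, 14]) =
    Matrix.diagonal (fun i : Fin 8 => if i.val < 4 then -1 else (1 : ZMod 3)) by decide +kernel,
    Matrix.mulVec_diagonal]

theorem vRel_iff {u v : List ℕ} (hu : u ∈ allVecs 8) (hv : v ∈ allVecs 8) :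
    vRel u v = true ↔ dotProduct (vec u) (vec v) = 0 ∨ vec u = vec v ∨ vec u = -vec v := by
  have hd : (rdot u v = 0) ↔ dotProduct (vec u) (vec v) = 0 := by
    rw [dot_vec, ZMod.natCast_eq_zero_iff]
    exact ⟨fun h => h ▸ dvd_zero _, fun h =>
      Nat.eq_zero_of_dvd_of_lt h (Nat.mod_lt _ (by norm_num))⟩
  simp only [vRel, Bool.or_eq_true, beq_iff_eq, hd, neg_vec, or_assoc]
  exact or_congr_right (or_congr ⟨fun e => by rw [e], vec_inj hu hv⟩
    ⟨fun e => by rw [e], vec_inj hu (rsmul_mem _ _)⟩)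

theorem tVecs_props {t : Fin 4} {v : List ℕ} (hv : v ∈ tVecs t) :
    v ∈ allVecs 8 ∧ dotProduct (vec v) (vec v) = ((t.val % 2 + 1 : ℕ) : ZMod 3) ∧
      ∀ i : Fin 8, i.val / 4 ≠ t.val / 2 → vec v i = 0 := by
  have h := clsOK_eq
  simp only [clsOK, Bool.and_eq_true, List.all_eq_true, List.mem_finRange, true_implies,
    decide_eq_true_eq] at h
  obtain ⟨⟨⟨-, hlen⟩, hlt⟩, -⟩ := (h.1 t).1 v hv
  refine ⟨mem_allVecs 8 v (by simpa using hlen) hlt, ?_, ?_⟩
  · rw [dot_vec]
    simp only [tVecs, List.mem_filter, beq_iff_eq] at hv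
    rw [hv.2]
  · intro i hi
    simp only [tVecs, List.mem_filter, List.mem_map] at hv
    obtain ⟨⟨w, hw, rfl⟩, -⟩ := hv
    have hl : w.length = 4 := by
      have : ∀ w ∈ allVecs 4, w.length = 4 := by decide +kernel
      exact this w hw
    have hh : t.val / 2 = 0 ∨ t.val / 2 = 1 := by omega
    rcases hh with e | e <;> rw [e] at hi ⊢
    · rw [vec, padV, if_pos rfl, List.getD_append_right _ _ _ _ (by omega)]
      fin_cases i <;> simp_all
    · rw [vec, padV, if_neg (by norm_num), List.getD_append _ _ _ _ (by simp; omega)]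
      fin_cases i <;> simp_all

theorem mem_tVecs {t : Fin 4} {u : Fin 8 → ZMod 3}
    (hn : dotProduct u u = ((t.val % 2 + 1 : ℕ) : ZMod 3))
    (hz : ∀ i : Fin 8, i.val / 4 ≠ t.val / 2 → u i = 0) : lstV u ∈ tVecs t := by
  have h := padOK_eq
  simp only [padOK, Bool.and_eq_true, List.all_eq_true, Bool.or_eq_true, Bool.not_eq_true',
    beq_eq_false_iff_ne, decide_eq_true_eq] at h
  have hm := h _ (lstV_mem u)
  simp only [tVecs, List.mem_filter, List.mem_map, beq_iff_eq]
  refine ⟨?_, ?_⟩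
  · have hh : t.val / 2 = 0 ∨ t.val / 2 = 1 := by omega
    rcases hh with e | e <;> rw [e] at hz ⊢
    · have e4 : (lstV u).drop 4 = [0, 0, 0, 0] := by
        simp [lstV, hz 4 (by decide), hz 5 (by decide), hz 6 (by decide), hz 7 (by decide)]
      refine ⟨(lstV u).take 4, hm.1.resolve_left (fun hne => hne e4), ?_⟩
      rw [padV, if_pos rfl, ← e4, List.take_append_drop]
    · have e4 : (lstV u).take 4 = [0, 0, 0, 0] := by
        simp [lstV, hz 0 (by decide), hz 1 (by decide), hz 2 (by decide), hz 3 (by decide)]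
      refine ⟨(lstV u).drop 4, hm.2.resolve_left (fun hne => hne e4), ?_⟩
      rw [padV, if_neg (by norm_num), ← e4, List.take_append_drop]
  · rw [← vec_lstV u, dot_vec, ZMod.natCast_eq_natCast_iff'] at hn
    have hlt : rdot (lstV u) (lstV u) < 3 := Nat.mod_lt _ (by norm_num)
    rw [Nat.mod_eq_of_lt hlt] at hn
    rw [hn]
    exact Nat.mod_eq_of_lt (by omega)

theorem tVecs_map {x : GG} (hx : x ∈ MM) (hc : Commute rD x) {t : Fin 4} {v : List ℕ}
    (hv : v ∈ tVecs t) : lstV ((x : Matrix (Fin 8) (Fin 8) (ZMod 3)).mulVec (vec v)) ∈ tVecs t := by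
  obtain ⟨-, hn, hz⟩ := tVecs_props hv
  refine mem_tVecs (by rw [MM_dot hx, hn]) fun i hi => ?_
  set u := (x : Matrix (Fin 8) (Fin 8) (ZMod 3)).mulVec (vec v) with hu
  set s : ZMod 3 := if t.val / 2 = 0 then -1 else 1 with hs
  have hDv : ((rD : GG) : Matrix (Fin 8) (Fin 8) (ZMod 3)).mulVec (vec v) = s • vec v := by
    funext j
    rw [rD_apply, Pi.smul_apply, smul_eq_mul]
    by_cases hj : j.val / 4 = t.val / 2
    · rw [hs]
      by_cases h4 : j.val < 4
      · rw [if_pos h4, if_pos (by omega)]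
      · rw [if_neg h4, if_neg (by omega)]
    · rw [hz j hj, mul_zero, mul_zero]
  have hDu : ((rD : GG) : Matrix (Fin 8) (Fin 8) (ZMod 3)).mulVec u = s • u := by
    rw [hu, ← mul_mulVec, hc.eq, mul_mulVec, hDv, Matrix.mulVec_smul]
  have e := congrFun hDu i
  rw [rD_apply, Pi.smul_apply, smul_eq_mul] at e
  have hne : (if i.val < 4 then -1 else (1 : ZMod 3)) ≠ s := by
    rw [hs]
    by_cases h1 : i.val < 4
    · rw [if_pos h1, if_neg (by omega)]; decide
    · rw [if_neg h1, if_pos (by omega)]; decide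
  have key : ((if i.val < 4 then -1 else (1 : ZMod 3)) - s) * u i = 0 := by rw [sub_mul, e, sub_self]
  exact (mul_eq_zero.1 key).resolve_left (sub_ne_zero.2 hne)

/-- The class of an image. -/
def imCls (x : GG) (t : Fin 4) (v : List ℕ) : Fin 3 :=
  tCls t (lstV ((x : Matrix (Fin 8) (Fin 8) (ZMod 3)).mulVec (vec v)))

/-- Moving the classes cyclically. -/
def HD (x : GG) : Prop :=
  x ∈ MM ∧ Commute rD x ∧ ∃ σ : Fin 4 → Equiv.Perm (Fin 3), ∀ t, Equiv.Perm.sign (σ t) = 1 ∧
    ∀ v ∈ tVecs t, imCls x t v = σ t (tCls t v)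

theorem imCls_mul {x y : GG} (hy : y ∈ MM) (hc : Commute rD y) {σ τ : Equiv.Perm (Fin 3)}
    {t : Fin 4} (h1 : ∀ v ∈ tVecs t, imCls x t v = σ (tCls t v))
    (h2 : ∀ v ∈ tVecs t, imCls y t v = τ (tCls t v)) :
    ∀ v ∈ tVecs t, imCls (x * y) t v = (σ * τ) (tCls t v) := by
  intro v hv
  have := h1 _ (tVecs_map hy hc hv)
  rw [imCls, vec_lstV] at this
  rw [imCls, mul_mulVec, this, Equiv.Perm.mul_apply, ← h2 v hv]
  rfl

theorem tCls_iff {t : Fin 4} {u v : List ℕ} (hu : u ∈ tVecs t) (hv : v ∈ tVecs t) :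
    vRel u v = true ↔ tCls t u = tCls t v := by
  have h := clsOK_eq
  simp only [clsOK, Bool.and_eq_true, List.all_eq_true, List.mem_finRange, true_implies,
    beq_iff_eq] at h
  rw [((h.1 t).1 u hu).2 v hv, beq_iff_eq]

theorem tRep_props (t : Fin 4) (c : Fin 3) : tCls t (tRep t c) = c ∧ tRep t c ∈ tVecs t := by
  have h := clsOK_eq
  simp only [clsOK, Bool.and_eq_true, List.all_eq_true, List.mem_finRange, true_implies,
    beq_iff_eq, decide_eq_true_eq] at h
  exact (h.1 t).2 c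

theorem exists_perm {x : GG} (hx : x ∈ MM) (hc : Commute rD x) (t : Fin 4) :
    ∃ σ : Equiv.Perm (Fin 3), ∀ v ∈ tVecs t, imCls x t v = σ (tCls t v) := by
  have hrel : ∀ u ∈ tVecs t, ∀ v ∈ tVecs t, imCls x t u = imCls x t v ↔ tCls t u = tCls t v := by
    intro u hu v hv
    rw [imCls, imCls, ← tCls_iff (tVecs_map hx hc hu) (tVecs_map hx hc hv), ← tCls_iff hu hv,
      vRel_iff (lstV_mem _) (lstV_mem _), vRel_iff (tVecs_props hu).1 (tVecs_props hv).1,
      vec_lstV, vec_lstV, MM_dot hx, ← Matrix.mulVec_neg]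
    have hinj : ∀ a b : Fin 8 → ZMod 3, (x : Matrix (Fin 8) (Fin 8) (ZMod 3)).mulVec a =
        (x : Matrix (Fin 8) (Fin 8) (ZMod 3)).mulVec b ↔ a = b :=
      fun a b => ⟨fun e => by rw [← inv_mulVec_cancel x a, e, inv_mulVec_cancel],
        fun e => by rw [e]⟩
    rw [hinj, hinj]
  have hinj : Function.Injective fun c => imCls x t (tRep t c) := fun c d e => by
    have := (hrel _ (tRep_props t c).2 _ (tRep_props t d).2).1 e
    rwa [(tRep_props t c).1, (tRep_props t d).1] at this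
  refine ⟨Equiv.ofBijective _ (Finite.injective_iff_bijective.1 hinj), fun v hv => ?_⟩
  exact (hrel v hv _ (tRep_props t _).2).2 (tRep_props t _).1.symm

theorem imCls_pow {x : GG} (hx : x ∈ MM) (hc : Commute rD x) {σ : Equiv.Perm (Fin 3)} {t : Fin 4}
    (h : ∀ v ∈ tVecs t, imCls x t v = σ (tCls t v)) :
    ∀ n : ℕ, ∀ v ∈ tVecs t, imCls (x ^ n) t v = (σ ^ n) (tCls t v) := by
  intro n
  induction n with
  | zero => intro v hv; rw [pow_zero, pow_zero, imCls, Units.val_one, Matrix.one_mulVec,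
      show lstV (vec v) = v from
        vec_inj (lstV_mem _) (tVecs_props hv).1 (vec_lstV _)]; rfl
  | succ n ih => rw [pow_succ, pow_succ]; exact imCls_mul hx hc ih h

theorem perm_pow_order {x : GG} (hx : x ∈ MM) (hc : Commute rD x) {σ : Equiv.Perm (Fin 3)}
    {t : Fin 4} (h : ∀ v ∈ tVecs t, imCls x t v = σ (tCls t v)) {n : ℕ} (hn : x ^ n = 1) :
    σ ^ n = 1 := by
  ext c : 1
  have e := imCls_pow hx hc h n _ (tRep_props t c).2
  have e0 := imCls_pow hx hc h 0 _ (tRep_props t c).2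
  rw [hn] at e
  rw [pow_zero, pow_zero] at e0
  rw [e0, (tRep_props t c).1] at e
  exact e.symm

theorem Kc_HD {x : GG} (hx : x ∈ Kc rD) : HD x := by
  induction hx using closure_induction with
  | mem x hx =>
    obtain ⟨h1, h2, h3⟩ := hx
    choose σ hσ using exists_perm h1 h2
    refine ⟨h1, h2, σ, fun t => ⟨?_, hσ t⟩⟩
    have e := congrArg Equiv.Perm.sign (perm_pow_order h1 h2 (hσ t) (pow_orderOf_eq_one x))
    rw [map_pow, map_one] at e
    rcases Int.units_eq_one_or (Equiv.Perm.sign (σ t)) with e' | e'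
    · exact e'
    · rw [e', h3.neg_one_pow] at e; exact absurd e (by decide)
  | one =>
    refine ⟨one_mem _, Commute.one_right _, fun _ => 1, fun t => ⟨map_one _, fun v hv => ?_⟩⟩
    rw [imCls, Units.val_one, Matrix.one_mulVec,
      show lstV (vec v) = v from vec_inj (lstV_mem _) (tVecs_props hv).1 (vec_lstV _)]
    rfl
  | mul x y _ _ h1 h2 =>
    obtain ⟨a1, a2, σ, hσ⟩ := h1
    obtain ⟨b1, b2, τ, hτ⟩ := h2
    exact ⟨mul_mem a1 b1, a2.mul_right b2, fun t => σ t * τ t, fun t =>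
      ⟨by rw [map_mul, (hσ t).1, (hτ t).1, one_mul], imCls_mul b1 b2 (hσ t).2 (hτ t).2⟩⟩
  | inv x _ h =>
    obtain ⟨a1, a2, σ, hσ⟩ := h
    refine ⟨inv_mem a1, a2.inv_right, fun t => (σ t)⁻¹, fun t => ⟨by
      rw [map_inv, (hσ t).1, inv_one], fun v hv => ?_⟩⟩
    have := (hσ t).2 _ (tVecs_map (inv_mem a1) a2.inv_right hv)
    rw [imCls, vec_lstV, mulVec_inv_cancel,
      show lstV (vec v) = v from vec_inj (lstV_mem _) (tVecs_props hv).1 (vec_lstV _)] at this
    rw [this]
    simp [imCls]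

theorem two_fix {x : GG} (hx : x ∈ Kc rD) (h2 : Two x) {t : Fin 4} {v : List ℕ} (hv : v ∈ tVecs t) :
    imCls x t v = tCls t v := by
  obtain ⟨h1, hc, σ, hσ⟩ := Kc_HD hx
  obtain ⟨n, hn⟩ := h2
  have e := perm_pow_order h1 hc (hσ t).2 hn
  have e3 : (σ t) ^ 3 = 1 := by
    have : ∀ p : Equiv.Perm (Fin 3), Equiv.Perm.sign p = 1 → p ^ 3 = 1 := by decide
    exact this _ (hσ t).1
  have e1 := pow_gcd_eq_one.2 (And.intro e e3)
  rw [show Nat.gcd (2 ^ n) 3 = 1 from Nat.Coprime.pow_left n (by norm_num), pow_one] at e1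
  rw [(hσ t).2 v hv, e1]
  rfl

theorem expand_mem : ∀ (gs : List (List ℕ)) (L : List (List ℕ)),
    (∀ g ∈ gs, isCode g = true ∧ ∃ x ∈ Kc rD, (x : Matrix (Fin 8) (Fin 8) (ZMod 3)) = toM (mrows g)) →
    (∀ p ∈ L, isCode p = true ∧ ∃ x ∈ Kc rD, (x : Matrix (Fin 8) (Fin 8) (ZMod 3)) = toM (mrows p)) →
    ∀ p ∈ gs.foldl (fun L g => L ++ L.map fun p => mcomp p g) L,
      isCode p = true ∧ ∃ x ∈ Kc rD, (x : Matrix (Fin 8) (Fin 8) (ZMod 3)) = toM (mrows p) := by
  intro gs
  induction gs with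
  | nil => intro L _ hL p hp; exact hL p hp
  | cons g gs ih =>
    intro L hg hL
    rw [List.foldl_cons]
    refine ih _ (fun u hu => hg u (List.mem_cons_of_mem _ hu)) fun p hp => ?_
    rcases List.mem_append.1 hp with hp | hp
    · exact hL p hp
    · obtain ⟨q, hq, rfl⟩ := List.mem_map.1 hp
      obtain ⟨hqc, x, hx, hxv⟩ := hL q hq
      obtain ⟨hgc, y, hy, hyv⟩ := hg g List.mem_cons_self
      exact ⟨isCode_mcomp hqc hgc, x * y, mul_mem hx hy,
        by rw [Units.val_mul, hxv, hyv, toM_mcomp _ hgc]⟩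

/-- Every listed signed permutation is a two-element of the subgroup. -/
theorem qd_mem {p : List ℕ} (hp : p ∈ qdList) :
    ∃ x : GG, x ∈ Kc rD ∧ Two x ∧ (x : Matrix (Fin 8) (Fin 8) (ZMod 3)) = toM (mrows p) := by
  have h := halvesOK_eq
  simp only [halvesOK, Bool.and_eq_true, List.all_eq_true, beq_iff_eq] at h
  obtain ⟨-, hgen⟩ := h
  have hhalf : ∀ n < 2, ∀ q ∈ dHalf n,
      isCode q = true ∧ ∃ x ∈ Kc rD, (x : Matrix (Fin 8) (Fin 8) (ZMod 3)) = toM (mrows q) := by
    intro n hn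
    refine expand_mem _ _ (fun g hg => ?_) fun q hq => ?_
    · obtain ⟨⟨g, ws⟩, hgw, rfl⟩ := List.mem_map.1 hg
      refine ⟨?_, wits_mem rD_val (hgen n (by interval_cases n <;> simp) _ hgw)⟩
      have : ∀ n < 2, ∀ g ∈ dGens n, isCode g.1 = true := by decide +kernel
      exact this n hn _ hgw
    · rw [List.mem_singleton.1 hq]
      exact ⟨isCode_mone, 1, one_mem _, by rw [toM_mone, Units.val_one]⟩
  have hp' := hp
  obtain ⟨a, ha, hp'⟩ := List.mem_flatMap.1 hp'
  obtain ⟨b, hb, rfl⟩ := List.mem_map.1 hp'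
  obtain ⟨-, x, hx, hxv⟩ := hhalf 0 (by norm_num) a ha
  obtain ⟨hbc, y, hy, hyv⟩ := hhalf 1 (by norm_num) b hb
  have hv : ((x * y : GG) : Matrix (Fin 8) (Fin 8) (ZMod 3)) = toM (mrows (mcomp a b)) := by
    rw [Units.val_mul, hxv, hyv, toM_mcomp _ hbc]
  refine ⟨x * y, mul_mem hx hy, ⟨2, Units.ext ?_⟩, hv⟩
  have h4 := (qd_fit ha hb).2
  have hc : isCode (mcomp a b) = true := isCode_mcomp (hhalf 0 (by norm_num) a ha).1 hbc
  rw [show (2 : ℕ) ^ 2 = 2 + 2 by norm_num, pow_add, pow_two, Units.val_mul, Units.val_mul, hv,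
    ← toM_mcomp _ hc, ← toM_mcomp _ (isCode_mcomp hc hc), h4, toM_mone, Units.val_one]

theorem vec_unitV (c : ℕ) (i : Fin 8) :
    vec (unitV c) i = if c / 2 = i.val then ((1 + c % 2 : ℕ) : ZMod 3) else 0 := by
  simp only [vec, unitV, List.getD_eq_getElem?_getD, List.getElem?_ofFn, i.isLt, dif_pos,
    Option.getD_some]
  split_ifs <;> simp

theorem vec_halfImg (o : ℕ) (cs v : List ℕ) (i : Fin 8) :
    vec (halfImg o cs v) i =
      ((v.getD (o + 0) 0 : ℕ) : ZMod 3) * vec (unitV (cs.getD 0 0)) i +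
      ((v.getD (o + 1) 0 : ℕ) : ZMod 3) * vec (unitV (cs.getD 1 0)) i +
      ((v.getD (o + 2) 0 : ℕ) : ZMod 3) * vec (unitV (cs.getD 2 0)) i +
      ((v.getD (o + 3) 0 : ℕ) : ZMod 3) * vec (unitV (cs.getD 3 0)) i := by
  simp only [vec, halfImg, List.getD_eq_getElem?_getD, List.getElem?_ofFn, i.isLt, dif_pos,
    Option.getD_some, ZMod.natCast_mod, show List.range 4 = [0, 1, 2, 3] from rfl, List.map_cons,
    List.map_nil, List.sum_cons, List.sum_nil, Nat.cast_add, Nat.cast_mul, Nat.cast_zero, add_zero]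
  ring

/-- Every two-element of the subgroup is listed. -/
theorem qd_cover' {x : GG} (hx : x ∈ Kc rD)
    (hfix : ∀ t : Fin 4, ∀ v ∈ tVecs t, imCls x t v = tCls t v) :
    ∃ p ∈ qdList, (x : Matrix (Fin 8) (Fin 8) (ZMod 3)) = toM (mrows p) := by
  have hxM := Kc_le_MM hx
  have hc := Kc_comm hx
  have hcl := clsOK_eq
  simp only [clsOK, Bool.and_eq_true, List.all_eq_true, List.mem_range, decide_eq_true_eq,
    beq_iff_eq, Bool.or_eq_true, bne_iff_ne, List.any_eq_true] at hcl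
  have hcol : ∀ j : Fin 8, ∃ c < 8,
      (x : Matrix (Fin 8) (Fin 8) (ZMod 3)).mulVec (vec (unitV (2 * j.val))) =
        vec (unitV ((if j.val < 4 then 0 else 8) + c)) := by
    intro j
    obtain ⟨⟨hm, h0⟩, hall⟩ := hcl.2 j.val j.isLt
    have hf := hfix _ _ hm
    rw [imCls, h0] at hf
    rcases hall _ (tVecs_map hxM hc hm) with h | ⟨c, hc', e⟩
    · exact absurd hf h
    · exact ⟨c, hc', by rw [← e, vec_lstV]⟩
  choose f hf hfe using hcol
  set p : List ℕ := List.ofFn fun j : Fin 8 => (if j.val < 4 then 0 else 8) + f j with hp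
  have hpd : ∀ j : Fin 8, p.getD j.val 0 = (if j.val < 4 then 0 else 8) + f j := fun j => by
    simp only [hp, List.getD_eq_getElem?_getD, List.getElem?_ofFn, j.isLt, dif_pos,
      Option.getD_some, Fin.eta]
  have hsingle : ∀ j : Fin 8, vec (unitV (2 * j.val)) = Pi.single j 1 := fun j => by
    funext i
    rw [vec_unitV, show 2 * j.val / 2 = j.val by omega, show 1 + 2 * j.val % 2 = 1 by omega]
    by_cases h : i = j
    · subst h; simp
    · rw [if_neg (fun e => h (Fin.ext e.symm)), Pi.single_eq_of_ne h]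
  have hpc : isCode p = true := isCode_iff.2 ⟨by simp [hp], fun c hc => by
    obtain ⟨j, rfl⟩ := List.mem_ofFn.1 hc
    have := hf j
    split_ifs <;> omega⟩
  have hxv : (x : Matrix (Fin 8) (Fin 8) (ZMod 3)) = toM (mrows p) := by
    ext i j
    have e := congrFun (hfe j) i
    rw [hsingle, Matrix.mulVec_single_one, vec_unitV] at e
    rw [toM_mrows_apply, hpd]
    exact e
  refine ⟨p, ?_, hxv⟩
  have hne : ∀ i j : Fin 8, i ≠ j → p.getD i.val 0 / 2 ≠ p.getD j.val 0 / 2 := by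
    intro i j hij e
    have hd := MM_dot hxM (vec (unitV (2 * i.val))) (vec (unitV (2 * j.val)))
    rw [hfe, hfe, ← hpd, ← hpd, hsingle, hsingle, single_dotProduct, one_mul,
      Pi.single_eq_of_ne hij] at hd
    have hlt := code_getD hpc i.val
    rw [dotProduct, Finset.sum_eq_single ⟨p.getD i.val 0 / 2, by omega⟩] at hd
    · rw [vec_unitV, vec_unitV, if_pos rfl, if_pos e.symm] at hd
      rcases Nat.mod_two_eq_zero_or_one (p.getD i.val 0) with a | a <;>
        rcases Nat.mod_two_eq_zero_or_one (p.getD j.val 0) with b | b <;>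
          rw [a, b] at hd <;> exact absurd hd (by decide)
    · intro b _ hb
      rw [vec_unitV, if_neg (fun e' => hb (Fin.ext e'.symm)), zero_mul]
    · exact fun h => absurd (Finset.mem_univ _) h
  have himg : ∀ (h : ℕ) (_ : h < 2) (t : Fin 4) (_ : t.val / 2 = h) (v : List ℕ) (_ : v ∈ tVecs t),
      tCls t (halfImg (4 * h) [p.getD (4 * h) 0, p.getD (4 * h + 1) 0, p.getD (4 * h + 2) 0,
        p.getD (4 * h + 3) 0] v) = tCls t v := by
    intro h hh t ht v hv
    conv_rhs => rw [← hfix t v hv]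
    rw [imCls]
    congr 1
    refine vec_inj (mem_allVecs 8 _ (by simp [halfImg]) fun c hc => by
      obtain ⟨i, rfl⟩ := List.mem_ofFn.1 hc; exact Nat.mod_lt _ (by norm_num)) (lstV_mem _) ?_
    rw [vec_lstV]
    funext i
    obtain ⟨-, -, hz⟩ := tVecs_props hv
    have hxcol : ∀ j : Fin 8, (x : Matrix (Fin 8) (Fin 8) (ZMod 3)) i j =
        vec (unitV (p.getD j.val 0)) i := fun j => by rw [hxv, toM_mrows_apply, vec_unitV]
    rw [vec_halfImg, Matrix.mulVec, dotProduct, Fin.sum_univ_eight]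
    simp only [hxcol]
    interval_cases h
    · rw [hz 4 (by rw [ht]; decide), hz 5 (by rw [ht]; decide), hz 6 (by rw [ht]; decide),
        hz 7 (by rw [ht]; decide)]
      simp only [vec, List.getD_cons_zero, List.getD_cons_succ, Nat.reduceMul, Nat.reduceAdd,
        Fin.val_zero, Fin.val_one, mul_zero, add_zero]
      simp only [show ((2 : Fin 8) : ℕ) = 2 from rfl, show ((3 : Fin 8) : ℕ) = 3 from rfl,
        show ((4 : Fin 8) : ℕ) = 4 from rfl, show ((5 : Fin 8) : ℕ) = 5 from rfl]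
      ring
    · rw [hz 0 (by rw [ht]; decide), hz 1 (by rw [ht]; decide), hz 2 (by rw [ht]; decide),
        hz 3 (by rw [ht]; decide)]
      simp only [vec, List.getD_cons_zero, List.getD_cons_succ, Nat.reduceMul, Nat.reduceAdd,
        mul_zero, zero_add]
      simp only [show ((4 : Fin 8) : ℕ) = 4 from rfl, show ((5 : Fin 8) : ℕ) = 5 from rfl,
        show ((6 : Fin 8) : ℕ) = 6 from rfl, show ((7 : Fin 8) : ℕ) = 7 from rfl]
      ring
  have hhalf : ∀ h < 2, (if h = 0 then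
      [p.getD 0 0, p.getD 1 0, p.getD 2 0, p.getD 3 0] ++ [8, 10, 12, 14]
      else [0, 2, 4, 6] ++ [p.getD 4 0, p.getD 5 0, p.getD 6 0, p.getD 7 0]) ∈ dHalf h := by
    intro h hh
    have hcand : ∀ k < 4, ∃ c < 8, p.getD (4 * h + k) 0 = 2 * (4 * h) + c := fun k hk => by
      refine ⟨f ⟨4 * h + k, by omega⟩, hf _, ?_⟩
      have := hpd ⟨4 * h + k, by omega⟩
      simp only at this
      rw [this]
      split_ifs <;> omega
    obtain ⟨a, ha, ea⟩ := hcand 0 (by norm_num)
    have hO : halfOK h a = true := halfOK_eq hh ha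
    simp only [halfOK, List.all_eq_true, List.mem_map, List.mem_range, Bool.or_eq_true,
      Bool.not_eq_true', Bool.and_eq_false_iff, decide_eq_true_eq, beq_iff_eq,
      beq_eq_false_iff_ne, forall_exists_index, and_imp, forall_apply_eq_imp_iff₂] at hO
    obtain ⟨b, hb, eb⟩ := hcand 1 (by norm_num)
    obtain ⟨c, hc', ec⟩ := hcand 2 (by norm_num)
    obtain ⟨d, hd, ed⟩ := hcand 3 (by norm_num)
    have hd' : ∀ {k l : ℕ}, k < 4 → l < 4 → k ≠ l →
        p.getD (4 * h + k) 0 / 2 ≠ p.getD (4 * h + l) 0 / 2 := fun {k l} hk hl hkl =>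
      hne ⟨4 * h + k, by omega⟩ ⟨4 * h + l, by omega⟩ (by simp [Fin.ext_iff]; omega)
    have h01 := hd' (k := 0) (l := 1) (by norm_num) (by norm_num) (by norm_num)
    have h02 := hd' (k := 0) (l := 2) (by norm_num) (by norm_num) (by norm_num)
    have h03 := hd' (k := 0) (l := 3) (by norm_num) (by norm_num) (by norm_num)
    have h12 := hd' (k := 1) (l := 2) (by norm_num) (by norm_num) (by norm_num)
    have h13 := hd' (k := 1) (l := 3) (by norm_num) (by norm_num) (by norm_num)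
    have h23 := hd' (k := 2) (l := 3) (by norm_num) (by norm_num) (by norm_num)
    rw [ea, eb] at h01; rw [ea, ec] at h02; rw [ea, ed] at h03
    rw [eb, ec] at h12; rw [eb, ed] at h13; rw [ec, ed] at h23
    have H1 := (hO b hb).resolve_left h01
    have H2 := (H1 c hc').resolve_left (by rintro (e | e); exacts [h02 e, h12 e])
    have H3 := H2 d hd
    rcases H3 with ((((e | e) | e) | ((e | e) | e)) | e)
    · exact absurd e h03
    · exact absurd e h13
    · exact absurd e h23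
    all_goals rw [add_zero] at ea
    all_goals rw [← ea, ← eb, ← ec, ← ed] at e
    · interval_cases h
      · exact absurd ((himg 0 hh 0 rfl _ (tRep_props 0 1).2).trans (tRep_props 0 1).1) e
      · exact absurd ((himg 1 hh 2 rfl _ (tRep_props 2 1).2).trans (tRep_props 2 1).1) e
    · interval_cases h
      · exact absurd ((himg 0 hh 1 rfl _ (tRep_props 1 0).2).trans (tRep_props 1 0).1) e
      · exact absurd ((himg 1 hh 3 rfl _ (tRep_props 3 0).2).trans (tRep_props 3 0).1) e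
    · interval_cases h
      · exact absurd ((himg 0 hh 1 rfl _ (tRep_props 1 1).2).trans (tRep_props 1 1).1) e
      · exact absurd ((himg 1 hh 3 rfl _ (tRep_props 3 1).2).trans (tRep_props 3 1).1) e
    · interval_cases h <;> exact e
  have ha := hhalf 0 (by norm_num)
  have hb := hhalf 1 (by norm_num)
  rw [if_pos rfl] at ha
  rw [if_neg (by norm_num)] at hb
  refine List.mem_flatMap.2 ⟨_, ha, List.mem_map.2 ⟨_, hb, ?_⟩⟩
  rw [(qd_fit ha hb).1]
  simp [hp]

theorem qd_cover {x : GG} (hx : x ∈ Kc rD) (h2 : Two x) :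
    ∃ p ∈ qdList, (x : Matrix (Fin 8) (Fin 8) (ZMod 3)) = toM (mrows p) :=
  qd_cover' hx fun _ _ hv => two_fix hx h2 hv

end H48.O8Std
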