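import Mathlib.Data.Nat.Notation

/-!
Coordinates of the 120 root lines in the frame of eight orthogonal reflections.
-/

set_option autoImplicit false
set_option maxRecDepth 100000

namespace H48.O8Std

/-- Scalar products with the frame vectors. -/
def frameDots : List (List ℕ) := [
  [0, 0, 0, 0, 0, 0, 0, 2],
  [0, 0, 0, 0, 0, 0, 2, 0],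
  [0, 0, 0, 0, 2, 1, 2, 1],
  [0, 0, 0, 0, 2, 1, 1, 2],
  [0, 0, 0, 0, 2, 1, 1, 1],
  [0, 0, 0, 0, 2, 1, 2, 2],
  [0, 0, 0, 0, 1, 1, 2, 1],
  [0, 0, 0, 0, 1, 1, 1, 2],
  [0, 0, 0, 0, 1, 1, 1, 1],
  [0, 0, 0, 0, 1, 1, 2, 2],
  [0, 0, 0, 0, 0, 2, 0, 0],
  [0, 0, 0, 0, 2, 0, 0, 0],
  [0, 0, 2, 1, 0, 0, 2, 1],
  [0, 0, 2, 1, 0, 0, 1, 2],
  [0, 0, 2, 1, 0, 0, 1, 1],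
  [0, 0, 2, 1, 0, 0, 2, 2],
  [0, 0, 2, 1, 2, 1, 0, 0],
  [0, 0, 2, 1, 1, 2, 0, 0],
  [0, 0, 2, 1, 1, 1, 0, 0],
  [0, 0, 2, 1, 2, 2, 0, 0],
  [0, 0, 1, 1, 0, 0, 2, 1],
  [0, 0, 1, 1, 0, 0, 1, 2],
  [0, 0, 1, 1, 0, 0, 1, 1],
  [0, 0, 1, 1, 0, 0, 2, 2],
  [0, 0, 1, 1, 2, 1, 0, 0],
  [0, 0, 1, 1, 1, 2, 0, 0],
  [0, 0, 1, 1, 1, 1, 0, 0],
  [0, 0, 1, 1, 2, 2, 0, 0],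
  [0, 0, 0, 2, 0, 0, 0, 0],
  [0, 0, 2, 0, 0, 0, 0, 0],
  [2, 1, 0, 0, 0, 0, 2, 1],
  [2, 1, 0, 0, 0, 0, 1, 2],
  [2, 1, 0, 0, 0, 0, 1, 1],
  [2, 1, 0, 0, 0, 0, 2, 2],
  [2, 1, 0, 0, 2, 1, 0, 0],
  [2, 1, 0, 0, 1, 2, 0, 0],
  [2, 1, 0, 0, 1, 1, 0, 0],
  [2, 1, 0, 0, 2, 2, 0, 0],
  [2, 1, 2, 1, 0, 0, 0, 0],
  [2, 1, 1, 2, 0, 0, 0, 0],
  [2, 1, 1, 1, 0, 0, 0, 0],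
  [2, 1, 2, 2, 0, 0, 0, 0],
  [1, 1, 0, 0, 0, 0, 2, 1],
  [1, 1, 0, 0, 0, 0, 1, 2],
  [1, 1, 0, 0, 0, 0, 1, 1],
  [1, 1, 0, 0, 0, 0, 2, 2],
  [1, 1, 0, 0, 2, 1, 0, 0],
  [1, 1, 0, 0, 1, 2, 0, 0],
  [1, 1, 0, 0, 1, 1, 0, 0],
  [1, 1, 0, 0, 2, 2, 0, 0],
  [1, 1, 2, 1, 0, 0, 0, 0],
  [1, 1, 1, 2, 0, 0, 0, 0],
  [1, 1, 1, 1, 0, 0, 0, 0],
  [1, 1, 2, 2, 0, 0, 0, 0],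
  [0, 2, 0, 0, 0, 0, 0, 0],
  [0, 2, 0, 2, 0, 2, 0, 2],
  [0, 2, 0, 2, 0, 2, 0, 1],
  [0, 2, 0, 2, 2, 0, 2, 0],
  [0, 2, 0, 2, 2, 0, 1, 0],
  [0, 2, 0, 2, 1, 0, 2, 0],
  [0, 2, 0, 2, 1, 0, 1, 0],
  [0, 2, 0, 2, 0, 1, 0, 2],
  [0, 2, 0, 2, 0, 1, 0, 1],
  [0, 2, 2, 0, 0, 2, 2, 0],
  [0, 2, 2, 0, 0, 2, 1, 0],
  [0, 2, 2, 0, 2, 0, 0, 2],
  [0, 2, 2, 0, 2, 0, 0, 1],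
  [0, 2, 2, 0, 1, 0, 0, 2],
  [0, 2, 2, 0, 1, 0, 0, 1],
  [0, 2, 2, 0, 0, 1, 2, 0],
  [0, 2, 2, 0, 0, 1, 1, 0],
  [0, 2, 1, 0, 0, 2, 2, 0],
  [0, 2, 1, 0, 0, 2, 1, 0],
  [0, 2, 1, 0, 2, 0, 0, 2],
  [0, 2, 1, 0, 2, 0, 0, 1],
  [0, 2, 1, 0, 1, 0, 0, 2],
  [0, 2, 1, 0, 1, 0, 0, 1],
  [0, 2, 1, 0, 0, 1, 2, 0],
  [0, 2, 1, 0, 0, 1, 1, 0],
  [0, 2, 0, 1, 0, 2, 0, 2],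
  [0, 2, 0, 1, 0, 2, 0, 1],
  [0, 2, 0, 1, 2, 0, 2, 0],
  [0, 2, 0, 1, 2, 0, 1, 0],
  [0, 2, 0, 1, 1, 0, 2, 0],
  [0, 2, 0, 1, 1, 0, 1, 0],
  [0, 2, 0, 1, 0, 1, 0, 2],
  [0, 2, 0, 1, 0, 1, 0, 1],
  [2, 0, 0, 0, 0, 0, 0, 0],
  [2, 0, 0, 2, 0, 2, 2, 0],
  [2, 0, 0, 2, 0, 2, 1, 0],
  [2, 0, 0, 2, 2, 0, 0, 2],
  [2, 0, 0, 2, 2, 0, 0, 1],
  [2, 0, 0, 2, 1, 0, 0, 2],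
  [2, 0, 0, 2, 1, 0, 0, 1],
  [2, 0, 0, 2, 0, 1, 2, 0],
  [2, 0, 0, 2, 0, 1, 1, 0],
  [2, 0, 2, 0, 0, 2, 0, 2],
  [2, 0, 2, 0, 0, 2, 0, 1],
  [2, 0, 2, 0, 2, 0, 2, 0],
  [2, 0, 2, 0, 2, 0, 1, 0],
  [2, 0, 2, 0, 1, 0, 2, 0],
  [2, 0, 2, 0, 1, 0, 1, 0],
  [2, 0, 2, 0, 0, 1, 0, 2],
  [2, 0, 2, 0, 0, 1, 0, 1],
  [2, 0, 1, 0, 0, 2, 0, 2],
  [2, 0, 1, 0, 0, 2, 0, 1],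
  [2, 0, 1, 0, 2, 0, 2, 0],
  [2, 0, 1, 0, 2, 0, 1, 0],
  [2, 0, 1, 0, 1, 0, 2, 0],
  [2, 0, 1, 0, 1, 0, 1, 0],
  [2, 0, 1, 0, 0, 1, 0, 2],
  [2, 0, 1, 0, 0, 1, 0, 1],
  [2, 0, 0, 1, 0, 2, 2, 0],
  [2, 0, 0, 1, 0, 2, 1, 0],
  [2, 0, 0, 1, 2, 0, 0, 2],
  [2, 0, 0, 1, 2, 0, 0, 1],
  [2, 0, 0, 1, 1, 0, 0, 2],
  [2, 0, 0, 1, 1, 0, 0, 1],
  [2, 0, 0, 1, 0, 1, 2, 0],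
  [2, 0, 0, 1, 0, 1, 1, 0]]

end H48.O8Std
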