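import Cfsg.Agent.H48.O8Std.DFacts
import Cfsg.Agent.H48.O8Std.FTab

/-!
Tables and checks on the permutations of the frame.
-/

set_option autoImplicit false
set_option maxRecDepth 100000

namespace H48.O8Std

open H20.O8Cover (rvv root rvec rsmul rdot vec fIdx quadSet)

/-- The lines negated by the involution. -/
def sideA : Finset (Fin 8) := {0, 2, 4, 7}

/-- The others. -/
def sideB : Finset (Fin 8) := {1, 3, 5, 6}

/-- Composition of permutations given by lists. -/
def lcomp (l m : List (Fin 8)) : List (Fin 8) := m.map fun i => l.getD i.val 0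

/-- The identity. -/
def lone : List (Fin 8) := List.finRange 8

/-- The masks of the fourteen quadruples. -/
def quadMasks : List ℕ := [15, 51, 195, 85, 165, 153, 105, 150, 102, 90, 170, 60, 204, 240]

/-- The candidate permutation from its two sides. -/
def sideCand (a b : List (Fin 8)) : List (Fin 8) :=
  [a.getD 0 0, b.getD 0 0, a.getD 1 0, b.getD 1 0, a.getD 2 0, b.getD 2 0, b.getD 3 0, a.getD 3 0]

/-- The mask of the image of a quadruple. -/
def imgMask (l : List (Fin 8)) (T : List ℕ) : ℕ := (T.map fun i => 2 ^ (l.getD i 0).val).sum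

/-- The fourteen quadruples. -/
def quadLists : List (List ℕ) := [[0, 1, 2, 3], [0, 1, 4, 5], [0, 1, 6, 7], [0, 2, 4, 6], [0, 2, 5, 7], [0, 3, 4, 7], [0, 3, 5, 6], [1, 2, 4, 7], [1, 2, 5, 6], [1, 3, 4, 6], [1, 3, 5, 7], [2, 3, 4, 5], [2, 3, 6, 7], [4, 5, 6, 7]]

/-- Permutations of the frame preserving both sides and the fourteen quadruples. -/
def f24 : List (List (Fin 8)) := [
  [0, 1, 2, 3, 4, 5, 6, 7],
  [0, 1, 2, 3, 7, 6, 5, 4],
  [0, 1, 4, 5, 2, 3, 6, 7],
  [0, 1, 4, 5, 7, 6, 3, 2],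
  [0, 1, 7, 6, 2, 3, 5, 4],
  [0, 1, 7, 6, 4, 5, 3, 2],
  [2, 3, 0, 1, 4, 5, 6, 7],
  [2, 3, 0, 1, 7, 6, 5, 4],
  [2, 3, 4, 5, 0, 1, 6, 7],
  [2, 3, 4, 5, 7, 6, 1, 0],
  [2, 3, 7, 6, 0, 1, 5, 4],
  [2, 3, 7, 6, 4, 5, 1, 0],
  [4, 5, 0, 1, 2, 3, 6, 7],
  [4, 5, 0, 1, 7, 6, 3, 2],
  [4, 5, 2, 3, 0, 1, 6, 7],
  [4, 5, 2, 3, 7, 6, 1, 0],
  [4, 5, 7, 6, 0, 1, 3, 2],
  [4, 5, 7, 6, 2, 3, 1, 0],
  [7, 6, 0, 1, 2, 3, 5, 4],
  [7, 6, 0, 1, 4, 5, 3, 2],
  [7, 6, 2, 3, 0, 1, 5, 4],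
  [7, 6, 2, 3, 4, 5, 1, 0],
  [7, 6, 4, 5, 0, 1, 3, 2],
  [7, 6, 4, 5, 2, 3, 1, 0]]

/-- A candidate preserving the quadruples is listed. -/
def candOK : Bool :=
  ([0, 2, 4, 7] : List (Fin 8)).permutations'.all fun a =>
    ([1, 3, 5, 6] : List (Fin 8)).permutations'.all fun b =>
      let l := sideCand a b
      !(quadLists.all fun T => quadMasks.contains (imgMask l T)) || f24.contains l

/-- Those inducing even permutations of the negated side. -/
def f12 : List (List (Fin 8)) :=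
  f24.filter fun l => (lcomp l (lcomp l l) == lone) ||
    ((lcomp l l == lone) && ([0, 2, 4, 7] : List (Fin 8)).all fun i => l.getD i.val 0 != i)

/-- Facts on these lists. -/
def fListOK : Bool :=
  (f24.all fun l => (lcomp l (lcomp l l) == lone) || (lcomp (lcomp l l) (lcomp l l) == lone)) &&
  (f12.all fun l => f12.all fun m => f12.contains (lcomp l m)) && f12.contains lone &&
  ((f12.filter fun l => lcomp l l == lone).length == 4) &&
  (f12.all fun l => (lcomp l l == lone) || (lcomp l (lcomp l l) == lone)) &&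
  ((f12.filter fun l => lcomp l l == lone).all fun l =>
    (f12.filter fun l => lcomp l l == lone).all fun m => lcomp (lcomp l m) (lcomp l m) == lone) &&
  (f24.all fun l => lcomp l (lcomp l l) != lone || f12.contains l)

theorem candOK_eq : candOK = true := by decide +kernel

theorem quadMask_mem : ∀ T ∈ quadSet, (∑ i ∈ T, 2 ^ i.val) ∈ quadMasks := by decide +kernel

theorem fListOK_eq : fListOK = true := by decide +kernel

/-- Candidates and membership. -/
theorem f24_of : ∀ a0 ∈ sideA, ∀ a1 ∈ sideA, ∀ a2 ∈ sideA, ∀ a3 ∈ sideA, a0 ≠ a1 → a0 ≠ a2 →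
    a0 ≠ a3 → a1 ≠ a2 → a1 ≠ a3 → a2 ≠ a3 →
    [a0, a1, a2, a3] ∈ ([0, 2, 4, 7] : List (Fin 8)).permutations' := by decide +kernel

theorem f24_ofB : ∀ a0 ∈ sideB, ∀ a1 ∈ sideB, ∀ a2 ∈ sideB, ∀ a3 ∈ sideB, a0 ≠ a1 → a0 ≠ a2 →
    a0 ≠ a3 → a1 ≠ a2 → a1 ≠ a3 → a2 ≠ a3 →
    [a0, a1, a2, a3] ∈ ([1, 3, 5, 6] : List (Fin 8)).permutations' := by decide +kernel

/-- The lines fixed and negated by the involution. -/
def fEigOK : Bool :=
  let A := mrows (classReps.getD 5 [])
  (List.range 120).all fun k =>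
    ((rvec A (root k) != rsmul 2 (root k)) || ([0, 2, 4, 7].any fun i : Fin 8 => k == fIdx i)) &&
    ((rvec A (root k) != root k) || ([1, 3, 5, 6].any fun i : Fin 8 => k == fIdx i)) &&
    ((root k).length == 8) && ((root k).all fun c => decide (c < 3)) &&
    ((List.finRange 8).all fun i =>
      (frameDots.getD k []).getD i.val 0 == rdot (root (fIdx i)) (root k))

theorem fEigOK_eq : fEigOK = true := by decide +kernel

end H48.O8Std
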