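import Cfsg.Agent.H48.O8Std.FPart

/-!
The two-elements attached to the involution with negated subspace of type 4A₁.
-/

set_option autoImplicit false
set_option maxRecDepth 100000

namespace H48.O8Std

open Subgroup H6.O8
open H76.Exc (toM rmul rsc toM_rmul toM_one toM_two)
open H20.O8Cover (rvv root rvec rsmul rdot vec vec_rvec vec_rsmul dot_vec fv fv_dot fIdx fIdx_lt
  frameMat frameMat_inv)

/-- The four permutations of order at most two. -/
def v4 : List (List (Fin 8)) := f12.filter fun l => lcomp l l == lone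

theorem two_HF {x : GG} (hx : x ∈ Kc rF) (h2 : Two x) : ∃ σ ε, FAct x σ ε ∧
    (∀ i, σ i ∈ sideA ↔ i ∈ sideA) ∧ List.ofFn σ ∈ v4 ∧ σ * σ = 1 ∧
      ∏ i ∈ sideA, ε i = 1 ∧ ∏ i ∈ sideB, ε i = 1 := by
  obtain ⟨σ, ε, a1, a2, a3, a4, a5⟩ := Kc_HF hx
  have h := two_square a1 a2 a3 h2
  refine ⟨σ, ε, a1, a2, List.mem_filter.2 ⟨a3, ?_⟩, h, a4, a5⟩
  rw [beq_iff_eq, lcomp_ofFn, h, lone_eq]

theorem two_of_act {x : GG} {σ : Equiv.Perm (Fin 8)} {ε : Fin 8 → (ZMod 3)ˣ} (h : FAct x σ ε)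
    (hσ : σ * σ = 1) : Two x := by
  have h2 := FAct_mul h h
  rw [hσ] at h2
  have h4 := FAct_mul h2 h2
  simp only [Equiv.Perm.one_apply, units_sq, mul_one] at h4
  exact ⟨2, by rw [show (2 : ℕ) ^ 2 = 2 + 2 by norm_num, pow_add, pow_two]; exact FAct_ext h4 FAct_one⟩

theorem k_F_closed : ∀ x ∈ Kc rF, ∀ y ∈ Kc rF, Two x → Two y → Two (x * y) := by
  intro x hx y hy hx2 hy2
  obtain ⟨σ, ε, a1, -, a3, -, -, -⟩ := two_HF hx hx2
  obtain ⟨τ, δ, b1, -, b3, -, -, -⟩ := two_HF hy hy2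
  refine two_of_act (FAct_mul a1 b1) ?_
  have h := fListOK_eq
  simp only [fListOK, Bool.and_eq_true, List.all_eq_true, beq_iff_eq] at h
  have := h.1.2 _ a3 _ b3
  rw [lcomp_ofFn, lcomp_ofFn, lone_eq] at this
  exact ofFn_inj this

theorem sideA_prod (ε : Fin 8 → (ZMod 3)ˣ) :
    ∏ i ∈ sideA, ε i = ε 0 * ε 2 * ε 4 * ε 7 ∧ ∏ i ∈ sideB, ε i = ε 1 * ε 3 * ε 5 * ε 6 := by
  simp [sideA, sideB, mul_assoc]

theorem unit_of_prod {a b c d : (ZMod 3)ˣ} (h : a * b * c * d = 1) : d = a * b * c := by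
  rw [← inv_eq_of_mul_eq_one_right h]
  exact inv_eq_of_mul_eq_one_right (units_sq _)

/-- The signs from six of them. -/
def epsOf (p : (ZMod 3)ˣ × (ZMod 3)ˣ × (ZMod 3)ˣ × (ZMod 3)ˣ × (ZMod 3)ˣ × (ZMod 3)ˣ) :
    Fin 8 → (ZMod 3)ˣ :=
  ![p.1, p.2.2.2.1, p.2.1, p.2.2.2.2.1, p.2.2.1, p.2.2.2.2.2,
    p.2.2.2.1 * p.2.2.2.2.1 * p.2.2.2.2.2, p.1 * p.2.1 * p.2.2.1]

theorem epsOf_eq {ε : Fin 8 → (ZMod 3)ˣ} (hA : ∏ i ∈ sideA, ε i = 1) (hB : ∏ i ∈ sideB, ε i = 1) :
    epsOf (ε 0, ε 2, ε 4, ε 1, ε 3, ε 5) = ε := by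
  rw [(sideA_prod ε).1] at hA
  rw [(sideA_prod ε).2] at hB
  funext i
  fin_cases i
  all_goals first | rfl | exact (unit_of_prod hA).symm | exact (unit_of_prod hB).symm

theorem k_FD_card : Nat.card {x : GG // x ∈ Kc rF ∧ Two x} <
    Nat.card {x : GG // x ∈ Kc rD ∧ Two x} := by
  classical
  rw [D_card]
  choose σ ε h1 _ h3 _ h5 h6 using fun x : {x : GG // x ∈ Kc rF ∧ Two x} => two_HF x.2.1 x.2.2
  let g : {x : GG // x ∈ Kc rF ∧ Two x} → {l // l ∈ v4.toFinset} ×
      ((ZMod 3)ˣ × (ZMod 3)ˣ × (ZMod 3)ˣ × (ZMod 3)ˣ × (ZMod 3)ˣ × (ZMod 3)ˣ) :=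
    fun x => (⟨List.ofFn (σ x), List.mem_toFinset.2 (h3 x)⟩,
      (ε x 0, ε x 2, ε x 4, ε x 1, ε x 3, ε x 5))
  have hg : Function.Injective g := fun x y e => by
    simp only [g, Prod.mk.injEq, Subtype.mk.injEq] at e
    have he : ε x = ε y := by
      rw [← epsOf_eq (h5 x) (h6 x), ← epsOf_eq (h5 y) (h6 y)]
      simp only [e.2]
    refine Subtype.ext (FAct_ext (h1 x) ?_)
    rw [ofFn_inj e.1, he]
    exact h1 y
  refine lt_of_le_of_lt (Nat.card_le_card_of_injective g hg) ?_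
  have hu : Fintype.card (ZMod 3)ˣ = 2 := by decide
  have h4 : v4.toFinset.card ≤ 4 := by
    have h := fListOK_eq
    simp only [fListOK, Bool.and_eq_true, beq_iff_eq] at h
    exact (List.toFinset_card_le _).trans h.1.1.1.2.le
  simp only [Nat.card_eq_fintype_card, Fintype.card_prod, Fintype.card_coe, hu]
  omega

/-- The number of lines negated by a signed permutation of the frame, from coordinates. -/
def fNeg (l : List (Fin 8)) (e : List ℕ) : ℕ :=
  ((List.range 120).filter fun k =>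
    let r := frameDots.getD k []
    (List.range 8).all fun i =>
      (e.getD i 0 * r.getD i 0 + r.getD (l.getD i 0).val 0) % 3 == 0).length

/-- All eight sign lists with trivial products on both sides. -/
def signLists : List (List ℕ) :=
  (List.range 64).map fun b =>
    let c := fun i => b / 2 ^ i % 2
    ([c 0, c 3, c 1, c 4, c 2, c 5, (c 3 + c 4 + c 5) % 2, (c 0 + c 1 + c 2) % 2]).map (1 + ·)

/-- The coset condition. -/
def cosetOK : Bool :=
  v4.all fun l => signLists.all fun e =>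
    !((List.range 8).all fun i => e.getD i 0 == e.getD (l.getD i 0).val 0) ||
    !(fNeg l e == 4) ||
    !(fNeg l ((List.range 8).map fun i =>
      if [0, 2, 4, 7].contains i then 3 - e.getD i 0 else e.getD i 0) == 4) ||
    (fNeg l (e.map fun a => 3 - a) == 4)

theorem cosetOK_eq : cosetOK = true := by decide +kernel

/-- The signs as a list. -/
def epsList (ε : Fin 8 → (ZMod 3)ˣ) : List ℕ := List.ofFn fun i => (ε i : ZMod 3).val

theorem epsList_mem {ε : Fin 8 → (ZMod 3)ˣ} (hA : ∏ i ∈ sideA, ε i = 1)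
    (hB : ∏ i ∈ sideB, ε i = 1) : epsList ε ∈ signLists := by
  rw [← epsOf_eq hA hB]
  generalize ((ε 0, ε 2, ε 4, ε 1, ε 3, ε 5) :
    (ZMod 3)ˣ × (ZMod 3)ˣ × (ZMod 3)ˣ × (ZMod 3)ˣ × (ZMod 3)ˣ × (ZMod 3)ˣ) = p
  revert p
  decide +kernel

theorem dot_frame {v w : Fin 8 → ZMod 3} (h : ∀ i, dotProduct (fv i) v = dotProduct (fv i) w) :
    v = w := by
  have e : frameMat.transpose.mulVec v = frameMat.transpose.mulVec w := funext fun i => h i
  have := congrArg (fun u => frameMat.mulVec ((2 : ZMod 3) • u)) e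
  simpa only [← Matrix.smul_mulVec, Matrix.mulVec_mulVec, frameMat_inv, Matrix.one_mulVec] using this

theorem negLines_act {x : GG} (hx : x ∈ MM) {σ : Equiv.Perm (Fin 8)} {ε : Fin 8 → (ZMod 3)ˣ}
    (h : FAct x σ ε) : (negLines x).card = fNeg (List.ofFn σ) (epsList ε) := by
  rw [fNeg, ← List.toFinset_card_of_nodup (List.Nodup.filter _ List.nodup_range)]
  congr 1
  ext k
  simp only [negLines, Finset.mem_filter, Finset.mem_range, List.mem_toFinset, List.mem_filter,
    List.mem_range, List.all_eq_true, beq_iff_eq, and_congr_right_iff]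
  intro hk
  have hE := fEigOK_eq
  simp only [fEigOK, Bool.and_eq_true, List.all_eq_true, List.mem_range, beq_iff_eq,
    List.mem_finRange, true_implies] at hE
  have htab : ∀ i : Fin 8,
      (((frameDots.getD k []).getD i.val 0 : ℕ) : ZMod 3) = dotProduct (fv i) (rvv k) := fun i => by
    rw [(hE k hk).2 i, ← dot_vec]; rfl
  have himg : ∀ i, dotProduct (fv (σ i)) ((x : Matrix (Fin 8) (Fin 8) (ZMod 3)).mulVec (rvv k)) =
      (ε i : ZMod 3) * dotProduct (fv i) (rvv k) := fun i => by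
    rw [← MM_dot hx (fv i) (rvv k), h i, smul_dotProduct, smul_eq_mul, ← mul_assoc, ← Units.val_mul,
      units_sq, Units.val_one, one_mul]
  have hcond : ∀ i : Fin 8, ((epsList ε).getD i.val 0 * (frameDots.getD k []).getD i.val 0 +
      (frameDots.getD k []).getD ((List.ofFn σ).getD i.val 0).val 0) % 3 = 0 ↔
      dotProduct (fv (σ i)) ((x : Matrix (Fin 8) (Fin 8) (ZMod 3)).mulVec (rvv k)) =
        dotProduct (fv (σ i)) (-rvv k) := fun i => by
    rw [himg, dotProduct_neg, eq_neg_iff_add_eq_zero, ofFn_getD, ← htab, ← htab,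
      show (ε i : ZMod 3) = (((epsList ε).getD i.val 0 : ℕ) : ZMod 3) by
        rw [epsList, List.getD_eq_getElem _ _ (by simp), List.getElem_ofFn, ZMod.natCast_zmod_val],
      ← Nat.cast_mul, ← Nat.cast_add, ZMod.natCast_eq_zero_iff, Nat.dvd_iff_mod_eq_zero]
  refine ⟨fun e i hi => (hcond ⟨i, hi⟩).2 (by rw [e]), fun e => dot_frame fun j => ?_⟩
  have := (hcond (σ⁻¹ j)).1 (e _ (σ⁻¹ j).isLt)
  rwa [perm_apply_inv] at this

theorem k_F_coset :
    ∀ x ∈ Kc rF, MConj x rF → MConj (rF * x) rF → MConj (zM * x) rF := by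
  intro x hx h1 h2
  have hF : rF * rF = (1 : GG) := by
    rw [← rep_F]
    exact Units.ext (by
      rw [Units.val_mul, (repGG_props (r := 5) (by norm_num)).2, ← toM_mcomp _ (by decide +kernel),
        Units.val_one]
      decide +kernel)
  have hxx : x * x = 1 := by
    obtain ⟨m, hm, e⟩ := h1
    rw [show x = m⁻¹ * rF * m by rw [← e]; group, show m⁻¹ * rF * m * (m⁻¹ * rF * m) =
      m⁻¹ * (rF * rF) * m by group, hF, mul_one, inv_mul_cancel]
  obtain ⟨σ, ε, a1, a2, a3, a4, a5, a6⟩ := two_HF hx ⟨1, by rw [pow_one, pow_two, hxx]⟩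
  have hM := Kc_le_MM hx
  have hrFM : rF ∈ MM := by rw [← rep_F]; exact (repGG_mem (by norm_num)).2 (Or.inl (by norm_num))
  have hzx : zM * x ∈ MM := mul_mem zM_mem hM
  have hzz : zM * x * (zM * x) = 1 := by
    rw [mul_assoc, ← mul_assoc x, ← zM_comm, mul_assoc, ← mul_assoc, zM_sq, one_mul, hxx]
  refine (inner_by_count hzx hzz).1 ?_
  have hεσ : ∀ i, ε i = ε (σ i) := fun i => by
    have e := FAct_unique (show FAct (x * x) (σ * σ) _ from FAct_mul a1 a1)
      (show FAct (x * x) 1 fun _ => 1 by rw [hxx]; exact FAct_one)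
    have ei : ε i * ε (σ i) = 1 := congrFun e.2 i
    rw [← inv_eq_of_mul_eq_one_right ei]
    exact (inv_eq_of_mul_eq_one_right (units_sq _)).symm
  have hact1 : FAct (rF * x) σ fun i => if i ∈ sideA then -ε i else ε i := fun i => by
    rw [mul_mulVec, a1, Matrix.mulVec_smul, rF_fv, smul_ite, smul_neg]
    by_cases hi : i ∈ sideA
    · rw [if_pos ((a2 i).2 hi)]; simp [hi]
    · rw [if_neg (fun h => hi ((a2 i).1 h))]; simp [hi]
  have hact2 : FAct (zM * x) σ fun i => -ε i := fun i => by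
    rw [mul_mulVec, a1, zM, Units.val_neg, Units.val_one, Units.val_neg, Matrix.neg_mulVec,
      Matrix.one_mulVec, neg_smul]
  have n0 := negLines_act hM a1
  have n1 := negLines_act (mul_mem hrFM hM) hact1
  have n2 := negLines_act hzx hact2
  have r5 := negLines_rep (r := 5) (by norm_num)
  simp only [rep_F, List.getD_cons_zero, List.getD_cons_succ] at r5
  rw [negLines_MConj h1, r5] at n0
  rw [negLines_MConj h2, r5] at n1
  rw [n2]
  have hv : ∀ u : (ZMod 3)ˣ, ((-u : (ZMod 3)ˣ) : ZMod 3).val = 3 - (u : ZMod 3).val := by decide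
  have e2 : epsList (fun i => -ε i) = (epsList ε).map fun a => 3 - a := by
    simp only [epsList, List.map_ofFn]
    exact congrArg List.ofFn (funext fun i => hv _)
  have e1 : epsList (fun i => if i ∈ sideA then -ε i else ε i) = (List.range 8).map fun i =>
      if [0, 2, 4, 7].contains i then 3 - (epsList ε).getD i 0 else (epsList ε).getD i 0 := by
    have hv' : ∀ u : (ZMod 3)ˣ, (-(u : ZMod 3)).val = 3 - (u : ZMod 3).val := by decide
    simp [epsList, sideA, List.ofFn_succ, List.range_succ, hv']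
  rw [e2]
  rw [e1] at n1
  have hc := cosetOK_eq
  simp only [cosetOK, List.all_eq_true, List.mem_range, Bool.or_eq_true, Bool.not_eq_true',
    beq_eq_false_iff_ne, beq_iff_eq, ← Bool.not_eq_true] at hc
  rcases hc _ a3 _ (epsList_mem a5 a6) with ((hc | hc) | hc) | hc
  · exfalso
    refine hc fun i hi => ?_
    have := congrArg (fun u : (ZMod 3)ˣ => (u : ZMod 3).val) (hεσ ⟨i, hi⟩)
    simp only [epsList] at this ⊢
    have g1 := ofFn_getD σ ⟨i, hi⟩
    simp only at g1
    rw [g1, List.getD_eq_getElem _ _ (by simpa using hi), List.getD_eq_getElem _ _ (by simp),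
      List.getElem_ofFn, List.getElem_ofFn]
    exact this
  · exact absurd n0.symm hc
  · exact absurd n1.symm hc
  · exact hc

/-- Witnesses. -/
def fWitOK : Bool :=
  witsOK (classReps.getD 5 []) [[32, 42, 46, 52, 32, 33], [10, 24, 32, 42, 2, 3, 42, 43],
    [2, 16, 28, 38, 26, 27, 44, 45]] mneg &&
  witsOK (classReps.getD 5 []) [[32, 42, 46, 52, 32, 33], [12, 22, 34, 40, 22, 23], [4, 14, 30, 36]]
    (classReps.getD 5 []) &&
  witsOK (classReps.getD 5 []) [[32, 42, 46, 52, 32, 33], [12, 22, 34, 40, 14, 15, 42, 43],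
    [4, 14, 30, 36]] [3, 1, 6, 4, 10, 8, 14, 12] &&
  (let n := fun A => ((List.range 120).filter fun k =>
      rvec A (root k) == rsmul 2 (root k)).length
   let q := mrows [3, 1, 6, 4, 10, 8, 14, 12]
   (n q == 4) && (n (rmul (rsc 2) q) == 4) && (n (rmul (mrows (classReps.getD 5 [])) q) == 12) &&
    (rmul q q == rsc 1) && (rmul (mrows (classReps.getD 5 [])) q == rmul q (mrows (classReps.getD 5 []))))

theorem fWitOK_eq : fWitOK = true := by decide +kernel

theorem k_F_z : zM ∈ Kc rF := by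
  have h := fWitOK_eq
  simp only [fWitOK, Bool.and_eq_true] at h
  obtain ⟨x, hx, hv⟩ := wits_mem rF_val h.1.1.1
  exact (gg_ext zM_val (hv.trans toM_mneg) : zM = x) ▸ hx

theorem fWit_u : witsOK (classReps.getD 5 [])
    [[32, 42, 46, 52, 32, 33], [12, 22, 34, 40, 22, 23], [4, 14, 30, 36]]
    (classReps.getD 5 []) = true := by decide +kernel

theorem k_F_u : rF ∈ Kc rF := by
  obtain ⟨x, hx, hv⟩ := wits_mem (q := classReps.getD 5 []) rF_val fWit_u
  have e : x = rF := Units.ext (hv.trans rF_val.symm)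
  exact Eq.mp (congrArg (fun y => y ∈ Kc rF) e) hx

theorem k_F_wit : ∃ x ∈ Kc rF, MConj x rF ∧ MConj (zM * x) rF ∧ MConj (rF * x) rD := by
  have h := fWitOK_eq
  simp only [fWitOK, Bool.and_eq_true, beq_iff_eq] at h
  obtain ⟨x, hx, hv⟩ := wits_mem rF_val h.1.2
  obtain ⟨⟨⟨⟨n0, n1⟩, n2⟩, hqq⟩, hcomm⟩ := h.2
  have hxx : x * x = 1 := Units.ext (by rw [gmul_val hv hv, hqq, toM_one, Units.val_one])
  have hM := Kc_le_MM hx
  have hzz : zM * x * (zM * x) = 1 := by
    rw [mul_assoc, ← mul_assoc x, ← zM_comm, mul_assoc, ← mul_assoc, zM_sq, one_mul, hxx]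
  have hFx : rF * x = x * rF := Units.ext (by rw [gmul_val rF_val hv, gmul_val hv rF_val, hcomm])
  have hF : rF * rF = (1 : GG) := Units.ext (by
    rw [Units.val_mul, rF_val, ← toM_mcomp _ (by decide +kernel), Units.val_one]
    decide +kernel)
  have hff : rF * x * (rF * x) = 1 := by
    rw [mul_assoc, ← mul_assoc x, ← hFx, mul_assoc, ← mul_assoc, hF, one_mul, hxx]
  have hrFM : rF ∈ MM := by rw [← rep_F]; exact (repGG_mem (by norm_num)).2 (Or.inl (by norm_num))
  exact ⟨x, hx, (inner_by_count hM hxx).1 (by rw [negLines_card_of_val hv, n0]),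
    (inner_by_count (mul_mem zM_mem hM) hzz).1
      (by rw [negLines_card_of_val (gmul_val zM_val hv), n1]),
    (inner_by_count (mul_mem hrFM hM) hff).2
      (by rw [negLines_card_of_val (gmul_val rF_val hv), n2])⟩

end H48.O8Std
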