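import Cfsg.Agent.H48.O8Std.FCheck

/-!
The subgroup attached to the involution with negated subspace of type 4A₁ acts on the frame of
eight lines by signed permutations.
-/

set_option autoImplicit false
set_option maxRecDepth 100000

namespace H48.O8Std

open Subgroup H6.O8
open H76.Exc (toM rmul rsc toM_rmul toM_one toM_two)
open H20.O8Cover (rvv root rvec rsmul rdot vec vec_rvec vec_rsmul dot_vec fv fv_dot fIdx fIdx_lt
  quadSet quad_line nonquad_lines adj adj_iff frameMat frameMat_inv ext_frame)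

theorem rF_val : ((rF : GG) : Matrix (Fin 8) (Fin 8) (ZMod 3)) =
    toM (mrows (classReps.getD 5 [])) := rep_F ▸ (repGG_props (r := 5) (by norm_num)).2

theorem rF_fv : ∀ i : Fin 8, ((rF : GG) : Matrix (Fin 8) (Fin 8) (ZMod 3)).mulVec (fv i) =
    if i ∈ sideA then -fv i else fv i := by
  intro i
  simp only [rF, mul_mulVec, H20.O8Cover.fr_fv]
  fin_cases i <;> simp [sideA, H20.O8Cover.fr_fv, Matrix.mulVec_neg]

/-- Signed permutation of the frame. -/
def FAct (x : GG) (σ : Equiv.Perm (Fin 8)) (ε : Fin 8 → (ZMod 3)ˣ) : Prop :=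
  ∀ i, (x : Matrix (Fin 8) (Fin 8) (ZMod 3)).mulVec (fv i) = (ε i : ZMod 3) • fv (σ i)

theorem units_sq (u : (ZMod 3)ˣ) : u * u = 1 := (by decide : ∀ u : (ZMod 3)ˣ, u * u = 1) u

theorem fv_unique {a b : (ZMod 3)ˣ} {i j : Fin 8} (h : (a : ZMod 3) • fv i = (b : ZMod 3) • fv j) :
    i = j ∧ a = b := by
  have e := congrArg (fun v => dotProduct v (fv i)) h
  simp only [smul_dotProduct, fv_dot, if_pos, smul_eq_mul] at e
  by_cases hij : i = j
  · refine ⟨hij, ?_⟩
    rw [if_pos hij.symm] at e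
    exact Units.ext (mul_right_cancel₀ (by decide : (2 : ZMod 3) ≠ 0) e)
  · rw [if_neg (Ne.symm hij), mul_zero] at e
    rcases mul_eq_zero.1 e with e | e
    · exact absurd e a.ne_zero
    · exact absurd e (by decide)

theorem FAct_one : FAct 1 1 fun _ => 1 := fun i => by simp

theorem FAct_mul {x y : GG} {σ τ : Equiv.Perm (Fin 8)} {ε δ : Fin 8 → (ZMod 3)ˣ}
    (hx : FAct x σ ε) (hy : FAct y τ δ) : FAct (x * y) (σ * τ) fun i => δ i * ε (τ i) := fun i => by
  rw [mul_mulVec, hy, Matrix.mulVec_smul, hx, smul_smul, Units.val_mul, Equiv.Perm.mul_apply]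

theorem perm_apply_inv (σ : Equiv.Perm (Fin 8)) (i : Fin 8) : σ (σ⁻¹ i) = i := by simp

theorem FAct_inv {x : GG} {σ : Equiv.Perm (Fin 8)} {ε : Fin 8 → (ZMod 3)ˣ} (hx : FAct x σ ε) :
    FAct x⁻¹ σ⁻¹ fun i => ε (σ⁻¹ i) := fun i => by
  have e := congrArg (fun v => (ε (σ⁻¹ i) : ZMod 3) •
    ((x⁻¹ : GG) : Matrix (Fin 8) (Fin 8) (ZMod 3)).mulVec v) (hx (σ⁻¹ i))
  simp only [inv_mulVec_cancel, Matrix.mulVec_smul, smul_smul, ← Units.val_mul, units_sq,
    Units.val_one, one_smul, perm_apply_inv] at e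
  exact e.symm

theorem FAct_unique {x : GG} {σ τ : Equiv.Perm (Fin 8)} {ε δ : Fin 8 → (ZMod 3)ˣ}
    (hx : FAct x σ ε) (hy : FAct x τ δ) : σ = τ ∧ ε = δ := by
  have h := fun i => fv_unique ((hx i).symm.trans (hy i))
  exact ⟨Equiv.ext fun i => (h i).1, funext fun i => (h i).2⟩

theorem FAct_ext {x y : GG} {σ : Equiv.Perm (Fin 8)} {ε : Fin 8 → (ZMod 3)ˣ}
    (hx : FAct x σ ε) (hy : FAct y σ ε) : x = y :=
  Units.ext (ext_frame fun i => (hx i).trans (hy i).symm)

theorem ofFn_getD (f : Fin 8 → Fin 8) (i : Fin 8) : (List.ofFn f).getD i.val 0 = f i := by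
  rw [List.getD_eq_getElem _ _ (by simp), List.getElem_ofFn]

theorem lcomp_ofFn (σ τ : Equiv.Perm (Fin 8)) :
    lcomp (List.ofFn σ) (List.ofFn τ) = List.ofFn (σ * τ) := by
  rw [lcomp, List.map_ofFn]
  congr 1
  funext i
  rw [Function.comp_apply, List.getD_eq_getElem _ _ (by simp), List.getElem_ofFn]
  rfl

theorem lone_eq : lone = List.ofFn ⇑(1 : Equiv.Perm (Fin 8)) := by decide +kernel

theorem ofFn_inj {σ τ : Equiv.Perm (Fin 8)} (h : List.ofFn σ = List.ofFn τ) : σ = τ :=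
  Equiv.ext (congrFun (List.ofFn_injective h))

/-- Existence of the signed permutation. -/
theorem exists_FAct {x : GG} (hx : x ∈ MM) (hc : Commute rF x) :
    ∃ σ ε, FAct x σ ε ∧ (∀ i, σ i ∈ sideA ↔ i ∈ sideA) ∧ List.ofFn σ ∈ f24 := by
  have hE := fEigOK_eq
  simp only [fEigOK, Bool.and_eq_true, Bool.or_eq_true, List.all_eq_true, List.mem_range,
    List.any_eq_true, bne_iff_ne, beq_iff_eq, decide_eq_true_eq] at hE
  have hmap : ∀ i, ∃ (j : Fin 8) (u : (ZMod 3)ˣ),
      (x : Matrix (Fin 8) (Fin 8) (ZMod 3)).mulVec (fv i) = (u : ZMod 3) • fv j ∧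
        (j ∈ sideA ↔ i ∈ sideA) := by
    intro i
    obtain ⟨l, hl, e⟩ := (H20.O8Cover.mem_M_props (MM_M hx)).2 (fIdx i) (fIdx_lt i)
    obtain ⟨⟨⟨⟨h1, h2⟩, hlen⟩, hlt⟩, -⟩ := hE l hl
    have hroot : root l ∈ allVecs 8 := mem_allVecs 8 _ hlen hlt
    have hF : ((rF : GG) : Matrix (Fin 8) (Fin 8) (ZMod 3)).mulVec
        ((x : Matrix (Fin 8) (Fin 8) (ZMod 3)).mulVec (fv i)) =
        if i ∈ sideA then -((x : Matrix (Fin 8) (Fin 8) (ZMod 3)).mulVec (fv i))
        else (x : Matrix (Fin 8) (Fin 8) (ZMod 3)).mulVec (fv i) := by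
      rw [← mul_mulVec, hc.eq, mul_mulVec, rF_fv]
      split_ifs <;> simp [Matrix.mulVec_neg]
    have hFl : ((rF : GG) : Matrix (Fin 8) (Fin 8) (ZMod 3)).mulVec (rvv l) =
        if i ∈ sideA then -rvv l else rvv l := by
      change _ = rvv l ∨ _ = -rvv l at e
      rcases e with e | e <;> rw [show rvv (fIdx i) = fv i from rfl] at e <;> rw [e] at hF
      · exact hF
      · split_ifs at hF ⊢ <;> simpa [Matrix.mulVec_neg, neg_eq_iff_eq_neg] using hF
    rw [rvv, rF_val, ← vec_rvec] at hFl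
    have hfin : ∃ j : Fin 8, l = fIdx j ∧ (j ∈ sideA ↔ i ∈ sideA) := by
      split_ifs at hFl with hi
      · rw [neg_vec] at hFl
        obtain ⟨j, hj, e'⟩ :=
          h1.resolve_left (fun hne => hne (vec_inj (rvec_mem _ _) (rsmul_mem _ _) hFl))
        refine ⟨j, e', iff_of_true ?_ hi⟩
        fin_cases hj <;> decide
      · obtain ⟨j, hj, e'⟩ := h2.resolve_left (fun hne => hne (vec_inj (rvec_mem _ _) hroot hFl))
        refine ⟨j, e', iff_of_false ?_ hi⟩
        fin_cases hj <;> decide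
    obtain ⟨j, rfl, hj⟩ := hfin
    rcases e with e | e
    · exact ⟨j, 1, by rw [Units.val_one, one_smul]; exact e, hj⟩
    · exact ⟨j, -1, by rw [Units.val_neg, Units.val_one, neg_one_smul]; exact e, hj⟩
  choose f ε hfe hfA using hmap
  have hinj : Function.Injective f := fun i j e => by
    by_contra hne
    have h := MM_dot hx (fv i) (fv j)
    rw [hfe, hfe, e, smul_dotProduct, dotProduct_smul, fv_dot, fv_dot, if_pos rfl, if_neg hne,
      smul_eq_mul, smul_eq_mul, mul_eq_zero, mul_eq_zero] at h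
    rcases h with h | h | h
    · exact (ε i).ne_zero h
    · exact (ε j).ne_zero h
    · exact absurd h (by decide)
  let σ := Equiv.ofBijective f (Finite.injective_iff_bijective.1 hinj)
  refine ⟨σ, ε, hfe, hfA, ?_⟩
  have hA : ∀ i, f i ∈ sideA ↔ i ∈ sideA := hfA
  have hB : ∀ i, i ∈ sideB → f i ∈ sideB := fun i hi => by
    have : ∀ j : Fin 8, j ∈ sideB ↔ j ∉ sideA := by decide
    rw [this] at hi ⊢
    rwa [hA]
  have hne : ∀ {i j : Fin 8}, i ≠ j → f i ≠ f j := fun h e => h (hinj e)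
  have ha := f24_of (f 0) ((hA 0).2 (by decide)) (f 2) ((hA 2).2 (by decide)) (f 4)
    ((hA 4).2 (by decide)) (f 7) ((hA 7).2 (by decide)) (hne (by decide)) (hne (by decide))
    (hne (by decide)) (hne (by decide)) (hne (by decide)) (hne (by decide))
  have hb := f24_ofB (f 1) (hB 1 (by decide)) (f 3) (hB 3 (by decide)) (f 5)
    (hB 5 (by decide)) (f 6) (hB 6 (by decide)) (hne (by decide)) (hne (by decide))
    (hne (by decide)) (hne (by decide)) (hne (by decide)) (hne (by decide))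
  have hquad : ∀ T ∈ quadSet, T.image f ∈ quadSet := by
    intro T hT
    by_contra hTn
    obtain ⟨k, hk, hkf, hkadj⟩ := quad_line hT
    obtain ⟨l, hl, e⟩ := (H20.O8Cover.mem_M_props (MM_M hx)).2 k hk
    have hcard : (T.image f).card = 4 := by
      rw [Finset.card_image_of_injective _ hinj, H20.O8Cover.quadSet_four T hT]
    have hl2 : l ∈ H20.O8Cover.frameIdx := by
      refine (nonquad_lines hcard hTn).2 l hl fun s hs => ?_
      obtain ⟨t, ht, rfl⟩ := Finset.mem_image.1 hs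
      refine (adj_iff (fIdx_lt _) hl).2 ?_
      have h := MM_dot hx (fv t) (rvv k)
      rw [hfe, show dotProduct (fv t) (rvv k) = 0 from (adj_iff (fIdx_lt t) hk).1 (hkadj t ht),
        smul_dotProduct, smul_eq_mul] at h
      have h' := (mul_eq_zero.1 h).resolve_left (ε t).ne_zero
      rcases e with e | e <;> rw [e] at h'
      · exact h'
      · rwa [dotProduct_neg, neg_eq_zero] at h'
    obtain ⟨j, rfl⟩ := H20.O8Cover.fIdx_surj hl2
    obtain ⟨i, rfl⟩ := (Finite.injective_iff_bijective.1 hinj).2 j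
    refine hkf ?_
    have hk' : rvv k = rvv (fIdx i) ∨ rvv k = -rvv (fIdx i) := by
      have hi := hfe i
      have key : ∀ v : Fin 8 → ZMod 3, ((x : Matrix (Fin 8) (Fin 8) (ZMod 3)).mulVec (rvv k) =
          (x : Matrix (Fin 8) (Fin 8) (ZMod 3)).mulVec v) → rvv k = v := fun v h => by
        rw [← inv_mulVec_cancel x (rvv k), h, inv_mulVec_cancel]
      rcases (by decide : ∀ u : (ZMod 3)ˣ, u = 1 ∨ u = -1) (ε i) with eu | eu <;> rw [eu] at hi <;>
        simp only [Units.val_one, one_smul, Units.val_neg, neg_one_smul] at hi <;>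
        rcases e with e | e <;>
        first
        | (left; refine key _ ?_; rw [e]; exact hi.symm)
        | (right; refine key _ ?_; rw [e, Matrix.mulVec_neg]; exact (neg_eq_iff_eq_neg.1 hi.symm).trans rfl)
        | (right; refine key _ ?_; rw [e, Matrix.mulVec_neg]; exact (congrArg Neg.neg hi).symm)
        | (left; refine key _ ?_; rw [e]; exact (hi.trans rfl).symm)
    have hkk := H20.O8Cover.line_inj hk (fIdx_lt i) hk'
    rw [hkk]
    have hlen : i.val < H20.O8Cover.frameIdx.length := i.isLt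
    rw [fIdx, List.getD_eq_getElem _ _ hlen]
    exact List.getElem_mem _
  have hC := candOK_eq
  simp only [candOK, List.all_eq_true, Bool.or_eq_true, Bool.not_eq_true', List.contains_iff_mem]
    at hC
  have hl : sideCand [f 0, f 2, f 4, f 7] [f 1, f 3, f 5, f 6] = List.ofFn σ := by
    simp [σ, sideCand, List.ofFn_succ]
  have h := hC _ ha _ hb
  rw [hl] at h
  refine h.resolve_left ?_
  rw [Bool.not_eq_false, List.all_eq_true]
  intro T hT
  rw [List.contains_iff_mem]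
  obtain ⟨S, hS, hST⟩ : ∃ S : Finset (Fin 8), S ∈ quadSet ∧
      imgMask (List.ofFn σ) T = ∑ i ∈ S, 2 ^ (σ i).val := by
    rw [← hl]
    simp only [quadLists, List.mem_cons, List.not_mem_nil, or_false] at hT
    rcases hT with rfl | rfl | rfl | rfl | rfl | rfl | rfl | rfl | rfl | rfl | rfl | rfl | rfl | rfl
    exacts [⟨{0, 1, 2, 3}, by decide, by simp [imgMask, sideCand, σ]⟩,
      ⟨{0, 1, 4, 5}, by decide, by simp [imgMask, sideCand, σ]⟩,
      ⟨{0, 1, 6, 7}, by decide, by simp [imgMask, sideCand, σ]⟩,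
      ⟨{0, 2, 4, 6}, by decide, by simp [imgMask, sideCand, σ]⟩,
      ⟨{0, 2, 5, 7}, by decide, by simp [imgMask, sideCand, σ]⟩,
      ⟨{0, 3, 4, 7}, by decide, by simp [imgMask, sideCand, σ]⟩,
      ⟨{0, 3, 5, 6}, by decide, by simp [imgMask, sideCand, σ]⟩,
      ⟨{1, 2, 4, 7}, by decide, by simp [imgMask, sideCand, σ]⟩,
      ⟨{1, 2, 5, 6}, by decide, by simp [imgMask, sideCand, σ]⟩,
      ⟨{1, 3, 4, 6}, by decide, by simp [imgMask, sideCand, σ]⟩,
      ⟨{1, 3, 5, 7}, by decide, by simp [imgMask, sideCand, σ]⟩,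
      ⟨{2, 3, 4, 5}, by decide, by simp [imgMask, sideCand, σ]⟩,
      ⟨{2, 3, 6, 7}, by decide, by simp [imgMask, sideCand, σ]⟩,
      ⟨{4, 5, 6, 7}, by decide, by simp [imgMask, sideCand, σ]⟩]
  rw [hST]
  have := quadMask_mem _ (hquad S hS)
  rwa [Finset.sum_image hinj.injOn] at this

/-- The subgroup preserves both sides evenly. -/
def HF (x : GG) : Prop :=
  ∃ σ ε, FAct x σ ε ∧ (∀ i, σ i ∈ sideA ↔ i ∈ sideA) ∧ List.ofFn σ ∈ f12 ∧
    ∏ i ∈ sideA, ε i = 1 ∧ ∏ i ∈ sideB, ε i = 1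

theorem prod_side {σ : Equiv.Perm (Fin 8)} (h : ∀ i, σ i ∈ sideA ↔ i ∈ sideA)
    (ε : Fin 8 → (ZMod 3)ˣ) :
    ∏ i ∈ sideA, ε (σ i) = ∏ i ∈ sideA, ε i ∧ ∏ i ∈ sideB, ε (σ i) = ∏ i ∈ sideB, ε i := by
  have hAB : ∀ j : Fin 8, j ∈ sideB ↔ j ∉ sideA := by decide
  exact ⟨Finset.prod_equiv σ (fun i => (h i).symm) fun _ _ => rfl,
    Finset.prod_equiv σ (fun i => by rw [hAB, hAB, h]) fun _ _ => rfl⟩

theorem f12_props {l : List (Fin 8)} (hl : l ∈ f12) :
    lcomp l l = lone ∨ lcomp l (lcomp l l) = lone := by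
  have h := fListOK_eq
  simp only [fListOK, Bool.and_eq_true, Bool.or_eq_true, List.all_eq_true, beq_iff_eq] at h
  exact h.1.1.2 l hl

theorem perm_cube {σ : Equiv.Perm (Fin 8)} (h : lcomp (List.ofFn σ) (lcomp (List.ofFn σ) (List.ofFn σ)) = lone) :
    σ ^ 3 = 1 := by
  rw [lcomp_ofFn, lcomp_ofFn, lone_eq] at h
  rw [pow_three]
  exact ofFn_inj h

theorem perm_square {σ : Equiv.Perm (Fin 8)} (h : lcomp (List.ofFn σ) (List.ofFn σ) = lone) :
    σ * σ = 1 := by
  rw [lcomp_ofFn, lone_eq] at h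
  exact ofFn_inj h

theorem HF_pow_sides {x : GG} {σ : Equiv.Perm (Fin 8)} {ε : Fin 8 → (ZMod 3)ˣ} (hx : FAct x σ ε)
    (hs : ∀ i, σ i ∈ sideA ↔ i ∈ sideA) :
    ∀ n : ℕ, ∃ δ, FAct (x ^ n) (σ ^ n) δ ∧ (∀ i, (σ ^ n) i ∈ sideA ↔ i ∈ sideA) ∧
      ∏ i ∈ sideA, δ i = (∏ i ∈ sideA, ε i) ^ n ∧ ∏ i ∈ sideB, δ i = (∏ i ∈ sideB, ε i) ^ n := by
  intro n
  induction n with
  | zero => exact ⟨fun _ => 1, by rw [pow_zero, pow_zero]; exact FAct_one, fun i => by simp,
      by simp, by simp⟩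
  | succ n ih =>
    obtain ⟨δ, h1, h2, h3, h4⟩ := ih
    refine ⟨fun i => ε i * δ (σ i), ?_, fun i => ?_, ?_, ?_⟩
    · rw [pow_succ, pow_succ]; exact FAct_mul h1 hx
    · rw [pow_succ, Equiv.Perm.mul_apply, h2, hs]
    · rw [Finset.prod_mul_distrib, (prod_side hs δ).1, h3, pow_succ']
    · rw [Finset.prod_mul_distrib, (prod_side hs δ).2, h4, pow_succ']

theorem Kc_HF {x : GG} (hx : x ∈ Kc rF) : HF x := by
  induction hx using closure_induction with
  | mem x hx =>
    obtain ⟨hxM, hc, hodd⟩ := hx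
    obtain ⟨σ, ε, hact, hs, hmem⟩ := exists_FAct hxM hc
    obtain ⟨δ, h1, -, h3, h4⟩ := HF_pow_sides hact hs (orderOf x)
    rw [pow_orderOf_eq_one] at h1
    obtain ⟨hσ, rfl⟩ := FAct_unique h1 FAct_one
    have hu : ∀ u : (ZMod 3)ˣ, u ^ orderOf x = 1 → u = 1 := fun u hu => by
      rcases (by decide : ∀ u : (ZMod 3)ˣ, u = 1 ∨ u = -1) u with rfl | rfl
      · rfl
      · rw [hodd.neg_one_pow] at hu; exact hu
    refine ⟨σ, ε, hact, hs, ?_, hu _ (by simpa using h3.symm), hu _ (by simpa using h4.symm)⟩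
    have h := fListOK_eq
    simp only [fListOK, Bool.and_eq_true, Bool.or_eq_true, List.all_eq_true, beq_iff_eq,
      bne_iff_ne, List.contains_iff_mem] at h
    refine (h.2 _ hmem).resolve_left (fun hne => hne ?_)
    rcases h.1.1.1.1.1.1 _ hmem with e | e
    · exact e
    · have e4 : σ ^ 4 = 1 := by
        rw [lcomp_ofFn, lcomp_ofFn, lone_eq] at e
        rw [show (4 : ℕ) = 2 + 2 from rfl, pow_add, pow_two]
        exact ofFn_inj e
      have e1 := pow_gcd_eq_one.2 (And.intro hσ e4)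
      rw [show Nat.gcd (orderOf x) 4 = 1 from
        Nat.Coprime.pow_right 2 (Nat.coprime_two_right.2 hodd), pow_one] at e1
      rw [e1, lcomp_ofFn, lcomp_ofFn, lone_eq, mul_one, mul_one]
  | one =>
    refine ⟨1, fun _ => 1, FAct_one, fun i => Iff.rfl, ?_, by simp, by simp⟩
    have h := fListOK_eq
    simp only [fListOK, Bool.and_eq_true, List.contains_iff_mem] at h
    rw [← lone_eq]
    exact h.1.1.1.1.2
  | mul x y _ _ h1 h2 =>
    obtain ⟨σ, ε, a1, a2, a3, a4, a5⟩ := h1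
    obtain ⟨τ, δ, b1, b2, b3, b4, b5⟩ := h2
    refine ⟨σ * τ, _, FAct_mul a1 b1, fun i => by rw [Equiv.Perm.mul_apply, a2, b2], ?_, ?_, ?_⟩
    · have h := fListOK_eq
      simp only [fListOK, Bool.and_eq_true, List.all_eq_true, List.contains_iff_mem] at h
      rw [← lcomp_ofFn]
      exact h.1.1.1.1.1.2 _ a3 _ b3
    · rw [Finset.prod_mul_distrib, (prod_side b2 ε).1, b4, a4, one_mul]
    · rw [Finset.prod_mul_distrib, (prod_side b2 ε).2, b5, a5, one_mul]
  | inv x _ h1 =>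
    obtain ⟨σ, ε, a1, a2, a3, a4, a5⟩ := h1
    have hinv : ∀ i, σ⁻¹ i ∈ sideA ↔ i ∈ sideA := fun i => by
      rw [← a2, perm_apply_inv]
    refine ⟨σ⁻¹, _, FAct_inv a1, hinv, ?_, by rw [(prod_side hinv ε).1, a4],
      by rw [(prod_side hinv ε).2, a5]⟩
    rcases f12_props a3 with e | e
    · rwa [inv_eq_of_mul_eq_one_right (perm_square e)]
    · have h := fListOK_eq
      simp only [fListOK, Bool.and_eq_true, List.all_eq_true, List.contains_iff_mem] at h
      rw [show σ⁻¹ = σ * σ from inv_eq_of_mul_eq_one_right (by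
        rw [← mul_assoc, mul_assoc, ← pow_three]; exact perm_cube e), ← lcomp_ofFn]
      exact h.1.1.1.1.1.2 _ a3 _ a3

/-- The two-elements have permutations of order at most two. -/
theorem two_square {x : GG} {σ : Equiv.Perm (Fin 8)} {ε : Fin 8 → (ZMod 3)ˣ} (hact : FAct x σ ε)
    (hs : ∀ i, σ i ∈ sideA ↔ i ∈ sideA) (hmem : List.ofFn σ ∈ f12) (h2 : Two x) : σ * σ = 1 := by
  rcases f12_props hmem with e | e
  · exact perm_square e
  · obtain ⟨n, hn⟩ := h2
    obtain ⟨δ, h1, -, -, -⟩ := HF_pow_sides hact hs (2 ^ n)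
    rw [hn] at h1
    have e1 := pow_gcd_eq_one.2 (And.intro (FAct_unique h1 FAct_one).1 (perm_cube e))
    rw [show Nat.gcd (2 ^ n) 3 = 1 from Nat.Coprime.pow_left n (by norm_num), pow_one] at e1
    rw [e1, mul_one]

end H48.O8Std
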