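import Cfsg.Agent.H48.O8Std.FFacts
import Cfsg.Agent.H20.O8Cover.KSmall
import Cfsg.Agent.H20.O8Cover.KThree

/-!
All the facts on the centralisers.
-/

set_option autoImplicit false

namespace H48.O8Std

open H6.O8 H20.O8Cover

theorem kFacts : KFacts where
  A_z := k_A_z
  A_u := k_A_u
  A_zu := k_A_zu
  B_z := k_B_z
  B_u := k_B_u
  B_root := k_B_root
  T_self := k_T_self
  T_sq := k_T_sq
  D_z := k_D_z
  D_u := k_D_u
  D_roots := k_D_roots
  F_z := k_F_z
  F_u := k_F_u
  FD_card := k_FD_card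
  R_z := k_R_z
  P_z := k_P_z
  F_closed := k_F_closed
  P_closed := k_P_closed
  F_coset := k_F_coset
  F_wit := k_F_wit
  P_wit := k_P_wit
  A_tri := k_A_tri
  R_pair := k_R_pair

end H48.O8Std
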